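import Cfsg.Agent.Lib.Classical.OrthEvenClass.GaussSum
import Cfsg.Agent.Lib.Classical.OrthClassBound.Main
import Cfsg.Agent.Lib.Classical.SpEven.Generic

/-!
Isometries of a quadratic form in characteristic two that are conjugate by an isometry of the polar form.
-/

set_option autoImplicit false
set_option linter.style.haveILetI false
set_option linter.unusedSectionVars false

namespace CfsgLib.Classical.OrthEvenClass

open Polynomial Module Matrix CfsgLib.Classical.SpClassBound CfsgLib.Classical.SpEven QuadraticMap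
  CfsgLib.Classical.OrthClassBound

open scoped _root_.Classical

variable {K : Type*} [Field K] {ι : Type} [Fintype ι] [DecidableEq ι] {Q : QuadraticForm K (ι → K)}

theorem q_equiv (A : Cfsg.isometryGroup K ⇑Q) (v : ι → K) : Q (equiv A v) = Q v := by
  rw [OrthClassBound.equiv_apply]; exact RestrictScalars.isometry_mem.1 A.2 v

theorem exists_mem (h : (ι → K) ≃ₗ[K] (ι → K)) (hQ : ∀ v, Q (h v) = Q v) :
    ∃ A : Cfsg.isometryGroup K ⇑Q, ∀ x, equiv A x = h x := by
  let c : GL ι K := ⟨LinearMap.toMatrix' (h : (ι → K) →ₗ[K] (ι → K)),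
    LinearMap.toMatrix' (h.symm : (ι → K) →ₗ[K] (ι → K)),
    by rw [← LinearMap.toMatrix'_comp]; simp, by rw [← LinearMap.toMatrix'_comp]; simp⟩
  have happ : ∀ x, (c : Matrix ι ι K) *ᵥ x = h x := fun x => by
    show LinearMap.toMatrix' (h : (ι → K) →ₗ[K] (ι → K)) *ᵥ x = _
    rw [← Matrix.toLin'_apply, Matrix.toLin'_toMatrix']; rfl
  exact ⟨⟨c, RestrictScalars.isometry_mem.2 fun v => by rw [happ]; exact hQ v⟩,
    fun x => by rw [OrthClassBound.equiv_apply]; exact happ x⟩

variable [CharP K 2]

theorem polar_alt (u : ι → K) : polarBilin Q u u = 0 := by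
  rw [polarBilin_apply_apply, polar_self, two_smul]
  exact CharTwo.add_self_eq_zero _

/-- The form on the image of `g - 1`. -/
theorem q_nop (A : Cfsg.isometryGroup K ⇑Q) (x : ι → K) :
    Q (nop (equiv A) x) = qv (equiv A) (polarBilin Q) x x 0 := by
  have h := q_equiv A x
  have e : equiv A x = x + nop (equiv A) x := by rw [nop_apply]; abel
  have hx : qv (equiv A) (polarBilin Q) x x 0 = polar (⇑Q) x (nop (equiv A) x) := by
    rw [qv, pow_zero, Module.End.one_apply, e, map_add, LinearMap.add_apply, polar_alt, zero_add,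
      polarBilin_apply_apply, QuadraticMap.polar_comm]
  rw [hx]
  rw [e, QuadraticMap.map_add (⇑Q), add_assoc, add_eq_left] at h
  exact (eq_neg_of_add_eq_zero_left h).trans (CharTwo.neg_eq _)

variable [Fintype K] (hnd : ∀ v, (∀ w, polarBilin Q v w = 0) → v = 0)
include hnd

/-- A conjugation preserving the polar form can be replaced by an isometry. -/
theorem isConj_of_polar_conj {A A' : Cfsg.isometryGroup K ⇑Q} (f : (ι → K) ≃ₗ[K] (ι → K))
    (hf : ∀ u v, polarBilin Q (f u) (f v) = polarBilin Q u v) (hfg : ∀ x, f (equiv A x) = equiv A' (f x)) :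
    IsConj A A' := by
  obtain ⟨c, hc⟩ : ∃ c : K, ∀ t : K, t ^ 2 + t ≠ c := by
    by_contra h
    push Not at h
    have hsurj : Function.Surjective fun t : K => t ^ 2 + t := h
    have := (Finite.injective_iff_surjective.mpr hsurj) (a₁ := 0) (a₂ := 1) (by simp [CharTwo.add_self_eq_zero])
    exact zero_ne_one this
  set g' := equiv A' with hg'
  have hsI : ∀ a b : K, a * a = b * b → a = b := fun a b h => by
    rcases mul_self_eq_mul_self_iff.mp h with h | h
    · exact h
    · exact h.trans (CharTwo.neg_eq _)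
  have hsymm : ∀ x, f.symm (g' x) = equiv A (f.symm x) := fun x =>
    f.injective (by rw [f.apply_symm_apply, hfg, f.apply_symm_apply])
  -- the difference of the two invariant forms is the square of a linear function
  have hdiff : ∀ v, ∃ s : K, s * s = Q (f.symm v) + Q v := fun v => exists_sqrt_char_two _
  choose s hs using hdiff
  have hpol : ∀ u v, polar (⇑Q) (f.symm u) (f.symm v) = polar (⇑Q) u v := fun u v => by
    have := hf (f.symm u) (f.symm v)
    rw [f.apply_symm_apply, f.apply_symm_apply] at this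
    exact this.symm
  let ℓ : (ι → K) →ₗ[K] K :=
    { toFun := s
      map_add' := fun u v => hsI _ _ (by
        rw [hs, map_add, QuadraticMap.map_add (⇑Q), QuadraticMap.map_add (⇑Q), hpol]
        linear_combination (-1 : K) * hs u - hs v + CharTwo.add_self_eq_zero (polar (⇑Q) u v)
          - CharTwo.add_self_eq_zero (s u * s v))
      map_smul' := fun t v => hsI _ _ (by
        rw [hs, map_smul, QuadraticMap.map_smul, QuadraticMap.map_smul, RingHom.id_apply, smul_eq_mul, smul_eq_mul,
          smul_eq_mul]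
        linear_combination (-(t * t)) * hs v) }
  have hI' := isom_equiv hnd A'
  obtain ⟨b, -, hb⟩ := exists_rep hI' (W := ⊤) (fun x _ h => hnd x fun y => h y Submodule.mem_top) ℓ
  replace hb : ∀ y, polarBilin Q y b * polarBilin Q y b = Q (f.symm y) + Q y := fun y => by
    rw [hb y Submodule.mem_top]; exact hs y
  have hQ' : ∀ y, Q (f.symm y) = Q y + polarBilin Q y b * polarBilin Q y b := fun y => by
    rw [hb]
    linear_combination -CharTwo.add_self_eq_zero (Q y)
  have hfix : g' b = b := by
    refine sub_eq_zero.mp (hnd _ fun y => hI'.symm_zero ?_)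
    rw [map_sub, sub_eq_zero]
    have e := hb (g'.symm y)
    rw [show Q (f.symm (g'.symm y)) = Q (f.symm y) by
        conv_rhs => rw [← g'.apply_symm_apply y, hsymm, q_equiv],
      show Q (g'.symm y) = Q y by conv_rhs => rw [← g'.apply_symm_apply y, hg', q_equiv],
      ← hI'.apply_right, ← hb] at e
    exact hsI _ _ e
  by_cases hr : ∃ t : K, t ^ 2 + t = Q b
  · obtain ⟨t, ht⟩ := hr
    obtain ⟨μ, hμ⟩ : ∃ μ : K, μ + μ * μ * Q b = 1 := by
      by_cases h0 : Q b = 0
      · exact ⟨1, by rw [h0]; ring⟩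
      · exact ⟨t / Q b, by field_simp; linear_combination ht⟩
    let T : (ι → K) →ₗ[K] (ι → K) := LinearMap.id + (μ • ((polarBilin Q).flip b)).smulRight b
    have hT : ∀ v, T v = v + (μ * polarBilin Q v b) • b := fun v => rfl
    have hinv : Function.Involutive T := fun v => by
      rw [hT, hT, map_add, LinearMap.add_apply, map_smul (polarBilin Q), LinearMap.smul_apply, polar_alt, smul_zero, add_zero,
        add_assoc, ← add_smul, CharTwo.add_self_eq_zero, zero_smul, add_zero]
    let τ : (ι → K) ≃ₗ[K] (ι → K) := LinearEquiv.ofInvolutive T hinv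
    have hQT : ∀ v, Q (τ v) = Q (f.symm v) := fun v => by
      show Q (T v) = _
      rw [hT, QuadraticMap.map_add (⇑Q), QuadraticMap.map_smul, polar_smul_right, ← polarBilin_apply_apply, hQ',
        smul_eq_mul, smul_eq_mul]
      linear_combination (polarBilin Q v b * polarBilin Q v b) * hμ
    obtain ⟨C, hC⟩ := exists_mem (Q := Q) (f.trans τ) fun v => by
      rw [LinearEquiv.trans_apply, hQT, f.symm_apply_apply]
    refine isConj_iff.mpr ⟨C, mul_inv_eq_iff_eq_mul.mpr (Subtype.ext (Units.ext
      (Matrix.toLin'.injective (LinearMap.ext fun x => ?_))))⟩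
    simp only [Subgroup.coe_mul, Units.val_mul, Matrix.toLin'_apply, ← mulVec_mulVec, ← OrthClassBound.equiv_apply, hC,
      LinearEquiv.trans_apply, hfg]
    show T (g' (f x)) = g' (T (f x))
    rw [hT, hT, map_add, map_smul, hfix]
    congr 3
    conv_lhs => rw [← hfix]
    exact hI'.inv _ _
  · exfalso
    push Not at hr
    have h1 := gauss_add_sq hc Q b
    have h2 : gauss (fun v => Q v + polarBilin Q v b * polarBilin Q v b) = gauss (⇑Q) :=
      Fintype.sum_equiv f.symm.toEquiv _ _ fun v => congrArg chi (hQ' v).symm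
    rw [h2, chi_of_no_sol hr] at h1
    exact gauss_ne_zero hc Q hnd (by omega)

/-- The two positive-dimensional types `V 4` do not fit the same form. -/
theorem v4_exclusive {c : K} (hc : ∀ t : K, t ^ 2 + t ≠ c) (A A' : Cfsg.isometryGroup K ⇑Q)
    (h : UHas (equiv A) (polarBilin Q) c (uPart (equiv A)) {UKey.cyc 2 false})
    (h' : UHas (equiv A') (polarBilin Q) c (uPart (equiv A')) {UKey.cyc 2 true})
    (hg : GIso (equiv A) (equiv A') (polarBilin Q) (gPart (equiv A)) (gPart (equiv A'))) : False := by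
  -- the sum on the unipotent part
  have hU : ∀ (A : Cfsg.isometryGroup K ⇑Q) (neg : Bool),
      UHas (equiv A) (polarBilin Q) c (uPart (equiv A)) {UKey.cyc 2 neg} →
      gauss (fun v : uPart (equiv A) => Q v) = (Fintype.card K : ℤ) * Fintype.card K * chi (if neg then c else 0) := by
    intro A neg hA
    obtain ⟨l, hl, hdec⟩ := hA
    obtain rfl := Multiset.coe_eq_singleton.mp hl
    have hI := isom_equiv hnd A
    set g := equiv A with hgdef
    set B := polarBilin Q with hB
    generalize hUW : uPart g = U at hdec ⊢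
    cases hdec with
    | @cons S W _ _ hk hrest ho =>
    cases hrest
    obtain ⟨-, z, hz, hq, hS⟩ := hk
    subst hS
    rw [sup_bot_eq]
    have hz' : (nop g ^ 4) z = 0 := by rw [← act_nilX]; exact hz
    have halt : ∀ u, B u u = 0 := polar_alt
    have hq0 : qv g B z z 0 = if neg then c else 0 := by
      rw [hq 0 (by omega), if_neg (by omega)]
      exact if_congr ⟨fun h => h.2, fun h => ⟨rfl, h⟩⟩ rfl rfl
    have hq1 : qv g B z z 1 = 1 := by rw [hq 1 (by omega), if_pos rfl]
    have htop : B ((nop g ^ 3) z) z = 1 := by rw [← qv_top hI halt (k := 2) hz' (by omega)]; exact hq1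
    have p0 : ∀ a b, 4 ≤ a + b → B ((nop g ^ a) z) ((nop g ^ b) z) = 0 := fun a b hab => pair_zero hI hz' hab
    have p1 : ∀ a b, a + b = 3 → B ((nop g ^ a) z) ((nop g ^ b) z) = 1 := fun a b hab => by
      rw [pair_top hI hz' (show a + b + 1 = 4 by omega), htop]
    set R := LinearMap.range (orb g ((monic_X_sub_C (1 : K)).pow (2 * 2)) z) with hR
    have hmem : ∀ i, (nop g ^ i) z ∈ R := fun i =>
      ⟨AdjoinRoot.mk _ (nilX K ^ i), (orb_mk _ hz _).trans (act_nilX i z)⟩
    let φ : K × K × K × K →ₗ[K] R :=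
      { toFun := fun t => ⟨t.1 • (nop g ^ 0) z + t.2.1 • (nop g ^ 1) z + t.2.2.1 • (nop g ^ 2) z +
          t.2.2.2 • (nop g ^ 3) z, R.add_mem (R.add_mem (R.add_mem (R.smul_mem _ (hmem 0)) (R.smul_mem _ (hmem 1)))
            (R.smul_mem _ (hmem 2))) (R.smul_mem _ (hmem 3))⟩
        map_add' := fun s t => Subtype.ext (by simp only [Prod.fst_add, Prod.snd_add, add_smul, Submodule.coe_add]; abel)
        map_smul' := fun r t => Subtype.ext (by simp [smul_add, smul_smul]) }
    have hφv : ∀ t, (φ t : ι → K) = t.1 • (nop g ^ 0) z + t.2.1 • (nop g ^ 1) z + t.2.2.1 • (nop g ^ 2) z +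
        t.2.2.2 • (nop g ^ 3) z := fun t => rfl
    have hinj : Function.Injective φ := (injective_iff_map_eq_zero φ).mpr fun t ht => by
      obtain ⟨t0, t1, t2, t3⟩ := t
      have hpair : ∀ j, B (φ (t0, t1, t2, t3) : ι → K) ((nop g ^ j) z) = 0 := fun j => by
        rw [ht, ZeroMemClass.coe_zero, map_zero, LinearMap.zero_apply]
      simp only [hφv, map_add, map_smul, LinearMap.add_apply, LinearMap.smul_apply, smul_eq_mul] at hpair
      have e3 := hpair 3
      rw [p1 0 3 rfl, p0 1 3 le_rfl, p0 2 3 (by omega), p0 3 3 (by omega)] at e3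
      simp only [mul_one, mul_zero, add_zero] at e3
      subst e3
      have e2 := hpair 2
      rw [p1 1 2 rfl, p0 2 2 le_rfl, p0 3 2 (by omega)] at e2
      simp only [mul_one, mul_zero, zero_mul, add_zero, zero_add] at e2
      subst e2
      have e1 := hpair 1
      rw [p1 2 1 rfl, p0 3 1 le_rfl] at e1
      simp only [mul_one, mul_zero, zero_mul, add_zero, zero_add] at e1
      subst e1
      have e0 := hpair 0
      rw [p1 3 0 rfl] at e0
      simp only [mul_one, zero_mul, zero_add] at e0
      subst e0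
      rfl
    have hfin : finrank K R ≤ 4 := by
      have hd : ((X - C (1 : K)) ^ (2 * 2)).natDegree = 4 := by rw [natDegree_pow, natDegree_X_sub_C]
      have := ((monic_X_sub_C (1 : K)).pow (2 * 2)).finite_adjoinRoot
      exact (LinearMap.finrank_range_le _).trans (by rw [finrank_adjoinRoot ((monic_X_sub_C (1 : K)).pow _), hd])
    have hbij : Function.Bijective φ := by
      have h4 : finrank K (K × K × K × K) = 4 := by simp
      have hle := LinearMap.finrank_le_finrank_of_injective hinj
      exact ⟨hinj, (LinearMap.injective_iff_surjective_of_finrank_eq_finrank (by omega)).mp hinj⟩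
    rw [gauss, ← Fintype.sum_equiv (Equiv.ofBijective φ hbij) (fun t => chi (Q (φ t : ι → K))) _ fun _ => rfl]
    have hQn : ∀ i, Q ((nop g ^ (i + 1)) z) = qv g B z z i := fun i => by
      rw [npow_succ, q_nop, qv_npow hI, zero_add]
    have hval : ∀ t0 t1 t2 t3, chi (Q (φ (t0, t1, t2, t3) : ι → K)) = chi (Q (t0 • (nop g ^ 0) z +
        t1 • (nop g ^ 1) z + t2 • (nop g ^ 2) z)) * chi (t3 * t0) := fun t0 t1 t2 t3 => by
      rw [hφv, QuadraticMap.map_add (⇑Q), ← polarBilin_apply_apply, ← hB]
      simp only [map_add, map_smul, LinearMap.add_apply, LinearMap.smul_apply, smul_eq_mul, QuadraticMap.map_smul]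
      rw [p1 0 3 rfl, p0 1 3 le_rfl, p0 2 3 (by omega), hQn 2, qv_high hI halt hz' (by omega)]
      simp only [mul_zero, add_zero, mul_one]
      rw [chi_add hc]
    simp only [Fintype.sum_prod_type, hval, ← Finset.mul_sum, sum_chi_mul hc]
    rw [Finset.sum_eq_single 0 (fun t0 _ h0 => by simp [h0]) (fun h => absurd (Finset.mem_univ _) h)]
    have hmid : ∀ t1 t2, chi (Q ((0 : K) • (nop g ^ 0) z + t1 • (nop g ^ 1) z + t2 • (nop g ^ 2) z)) =
        chi (t1 * t1 * if neg then c else 0) * chi (t2 * (1 + t1)) := fun t1 t2 => by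
      rw [zero_smul, zero_add, QuadraticMap.map_add (⇑Q), ← polarBilin_apply_apply, ← hB, map_smul B,
        LinearMap.smul_apply, map_smul (B _), QuadraticMap.map_smul, QuadraticMap.map_smul, p1 1 2 rfl, hQn 0,
        hQn 1, hq0, hq1, smul_eq_mul, smul_eq_mul, smul_eq_mul, smul_eq_mul, mul_one, mul_one, add_assoc,
        chi_add hc, chi_add hc, chi_sq hc, ← chi_add hc]
      ring_nf
    simp only [hmid, ← Finset.sum_mul, ← Finset.mul_sum, sum_chi_mul hc]
    rw [Finset.sum_eq_single 1 (fun t1 _ h1 => by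
      rw [if_neg (fun h => h1 ((eq_neg_of_add_eq_zero_right h).trans (CharTwo.neg_eq _))), mul_zero])
      (fun h => absurd (Finset.mem_univ _) h)]
    simp only [if_pos (CharTwo.add_self_eq_zero (1 : K)), one_mul, if_true]
    ring
  -- the sums on the two parts multiply
  have hsplit : ∀ A : Cfsg.isometryGroup K ⇑Q, gauss (⇑Q) =
      gauss (fun v : uPart (equiv A) => Q v) * gauss (fun v : gPart (equiv A) => Q v) := fun A => by
    rw [gauss, gauss, gauss, Fintype.sum_mul_sum, ← Fintype.sum_prod_type']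
    refine (Fintype.sum_equiv (Submodule.prodEquivOfIsCompl _ _ (isCompl_parts (equiv A))).toEquiv _ _ fun p => ?_).symm
    show _ = chi (Q ((p.1 : ι → K) + (p.2 : ι → K)))
    rw [QuadraticMap.map_add (⇑Q), ← polarBilin_apply_apply, parts_orth (isom_equiv hnd A) _ p.1.2 _ p.2.2, add_zero,
      chi_add hc]
  -- the generic parts agree
  have hgen : gauss (fun v : gPart (equiv A) => Q v) = gauss (fun v : gPart (equiv A') => Q v) := by
    obtain ⟨Γ, h1, h2, hgΓ, hB⟩ := hg
    have hsur : ∀ (A : Cfsg.isometryGroup K ⇑Q), ∀ x ∈ gPart (equiv A), ∃ a ∈ gPart (equiv A), nop (equiv A) a = x :=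
      fun A x hx => by
        obtain ⟨⟨a, ha⟩, e⟩ := LinearMap.surjective_of_injective
          (f := (nop (equiv A)).restrict fun y hy => nop_mem (gPart_stable (equiv A)) hy)
          ((injective_iff_map_eq_zero _).mpr fun y hy => Subtype.ext
            (gPart_fixed y.2 (gpow_fix (congrArg Subtype.val hy)))) ⟨x, hx⟩
        exact ⟨a, ha, congrArg Subtype.val e⟩
    have hfst : ∀ p : Γ, (p : (ι → K) × (ι → K)).1 ∈ gPart (equiv A) := fun p => h1 ▸ ⟨p, p.2, rfl⟩
    have hsnd : ∀ p : Γ, (p : (ι → K) × (ι → K)).2 ∈ gPart (equiv A') := fun p => h2 ▸ ⟨p, p.2, rfl⟩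
    have huniq : ∀ p r : Γ, (p : (ι → K) × (ι → K)).1 = (r : (ι → K) × (ι → K)).1 → p = r := fun p r e => by
      refine Subtype.ext (Prod.ext e (sub_eq_zero.mp (nd_gPart (isom_equiv hnd A') _
        (Submodule.sub_mem _ (hsnd p) (hsnd r)) fun y hy => ?_)))
      obtain ⟨w, hw, rfl⟩ := (h2.ge hy : y ∈ Γ.map (LinearMap.snd K _ _))
      rw [map_sub, LinearMap.sub_apply, LinearMap.snd_apply, ← hB _ p.2 _ hw, ← hB _ r.2 _ hw, e, sub_self]
    have huniq' : ∀ p r : Γ, (p : (ι → K) × (ι → K)).2 = (r : (ι → K) × (ι → K)).2 → p = r := fun p r e => by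
      refine Subtype.ext (Prod.ext (sub_eq_zero.mp (nd_gPart (isom_equiv hnd A) _
        (Submodule.sub_mem _ (hfst p) (hfst r)) fun y hy => ?_)) e)
      obtain ⟨w, hw, rfl⟩ := (h1.ge hy : y ∈ Γ.map (LinearMap.fst K _ _))
      rw [map_sub, LinearMap.sub_apply, LinearMap.fst_apply, hB _ p.2 _ hw, hB _ r.2 _ hw, e, sub_self]
    have hQ : ∀ p : Γ, Q (p : (ι → K) × (ι → K)).1 = Q (p : (ι → K) × (ι → K)).2 := fun p => by
      obtain ⟨a, ha, hax⟩ := hsur A _ (hfst p)
      obtain ⟨⟨a', b⟩, hab, rfl⟩ := (h1.ge ha : a ∈ Γ.map (LinearMap.fst K _ _))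
      have hn : (nop (equiv A) a', nop (equiv A') b) ∈ Γ := by
        have := Γ.sub_mem (hgΓ _ hab) hab
        simpa [nop_apply] using this
      have e := huniq p ⟨_, hn⟩ hax.symm
      rw [e, q_nop, q_nop, qv, qv, pow_zero, pow_zero, Module.End.one_apply, Module.End.one_apply]
      exact hB _ (hgΓ _ hab) _ hab
    let π₁ : Γ → gPart (equiv A) := fun p => ⟨_, hfst p⟩
    let π₂ : Γ → gPart (equiv A') := fun p => ⟨_, hsnd p⟩
    have b₁ : Function.Bijective π₁ := ⟨fun p r e => huniq p r (congrArg Subtype.val e), fun x => by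
      obtain ⟨w, hw, e⟩ := (h1.ge x.2 : (x : ι → K) ∈ Γ.map (LinearMap.fst K _ _))
      exact ⟨⟨w, hw⟩, Subtype.ext e⟩⟩
    have b₂ : Function.Bijective π₂ := ⟨fun p r e => huniq' p r (congrArg Subtype.val e), fun x => by
      obtain ⟨w, hw, e⟩ := (h2.ge x.2 : (x : ι → K) ∈ Γ.map (LinearMap.snd K _ _))
      exact ⟨⟨w, hw⟩, Subtype.ext e⟩⟩
    rw [gauss, gauss]
    refine ((Fintype.sum_equiv (Equiv.ofBijective π₁ b₁) (fun p : Γ => chi (Q (p : (ι → K) × (ι → K)).1)) _
      fun _ => rfl).symm.trans (Finset.sum_congr rfl fun p _ => congrArg chi (hQ p))).trans ?_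
    exact Fintype.sum_equiv (Equiv.ofBijective π₂ b₂) _ _ fun _ => rfl
  have hne := gauss_ne_zero hc Q hnd
  have e1 := hsplit A
  have e2 := hsplit A'
  rw [hU A false h] at e1
  rw [hU A' true h'] at e2
  simp only [Bool.false_eq_true, if_false, if_true, chi_zero, chi_of_no_sol hc] at e1 e2
  rw [hgen] at e1
  exact hne (by linarith)

end CfsgLib.Classical.OrthEvenClass
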