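import Cfsg.Agent.Lib.Classical.SpEven.Normalize

/-!
The quadratic Gauss sum in characteristic two.
-/

set_option autoImplicit false
set_option linter.style.haveILetI false
set_option linter.unusedSectionVars false

namespace CfsgLib.Classical.OrthEvenClass

open QuadraticMap Module

open scoped _root_.Classical

variable {K : Type*} [Field K]

/-- The sign of a scalar: positive on the values of `t ^ 2 + t`. -/
noncomputable def chi (a : K) : ℤ := if ∃ t : K, t ^ 2 + t = a then 1 else -1

theorem chi_zero : chi (0 : K) = 1 := if_pos ⟨0, by ring⟩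

theorem chi_of_sol {a : K} (t : K) (h : t ^ 2 + t = a) : chi a = 1 := if_pos ⟨t, h⟩

theorem chi_of_no_sol {a : K} (h : ∀ t : K, t ^ 2 + t ≠ a) : chi a = -1 := if_neg fun ⟨t, ht⟩ => h t ht

theorem chi_mul_self (a : K) : chi a * chi a = 1 := by
  rw [chi]; split_ifs <;> rfl

variable [CharP K 2] [Finite K] {c : K} (hc : ∀ t : K, t ^ 2 + t ≠ c)
include hc

theorem chi_add (a b : K) : chi (a + b) = chi a * chi b := by
  have hadd : ∀ s t : K, (s + t) ^ 2 + (s + t) = s ^ 2 + s + (t ^ 2 + t) := fun s t => by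
    rw [add_pow_char]; ring
  have hone : ∀ x : K, chi x = -1 → ∃ t : K, t ^ 2 + t = x + c := fun x hx => by
    obtain ⟨t, ht | ht⟩ := SpEven.artin_schreier hc x
    · exact absurd (chi_of_sol t ht) (by rw [hx]; decide)
    · exact ⟨t, ht⟩
  have hpos : ∀ x : K, chi x = 1 → ∃ t : K, t ^ 2 + t = x := fun x hx => by
    by_contra h
    rw [chi, if_neg h] at hx
    exact absurd hx (by decide)
  have hval : ∀ x : K, chi x = 1 ∨ chi x = -1 := fun x => by rw [chi]; split_ifs <;> simp
  have hnot : ∀ x : K, (∃ t, t ^ 2 + t = x + c) → chi x = -1 := fun x ⟨t, ht⟩ => by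
    refine chi_of_no_sol fun s hs => hc (s + t) ?_
    rw [hadd, hs, ht, ← add_assoc, CharTwo.add_self_eq_zero, zero_add]
  rcases hval a with ha | ha <;> rcases hval b with hb | hb <;> rw [ha, hb]
  · obtain ⟨s, hs⟩ := hpos a ha
    obtain ⟨t, ht⟩ := hpos b hb
    exact chi_of_sol (s + t) (by rw [hadd, hs, ht])
  · obtain ⟨s, hs⟩ := hpos a ha
    obtain ⟨t, ht⟩ := hone b hb
    exact hnot _ ⟨s + t, by rw [hadd, hs, ht, add_assoc]⟩
  · obtain ⟨s, hs⟩ := hone a ha
    obtain ⟨t, ht⟩ := hpos b hb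
    exact hnot _ ⟨s + t, by rw [hadd, hs, ht]; ring⟩
  · obtain ⟨s, hs⟩ := hone a ha
    obtain ⟨t, ht⟩ := hone b hb
    exact chi_of_sol (s + t) (by rw [hadd, hs, ht, add_add_add_comm, CharTwo.add_self_eq_zero, add_zero])

theorem chi_sq (s : K) : chi (s * s) = chi s := by
  have h : chi (s * s + s) = 1 := chi_of_sol s (by ring)
  rw [chi_add hc] at h
  calc chi (s * s) = chi (s * s) * (chi s * chi s) := by rw [chi_mul_self, mul_one]
    _ = chi s := by rw [← mul_assoc, h, one_mul]

theorem sum_chi_linear {V : Type*} [AddCommGroup V] [Module K V] [Fintype V] (ℓ : V →ₗ[K] K) (h : ℓ ≠ 0) :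
    ∑ v, chi (ℓ v) = 0 := by
  obtain ⟨v₀, hv₀⟩ : ∃ v, ℓ v ≠ 0 := by
    by_contra hno
    push Not at hno
    exact h (LinearMap.ext hno)
  have e : ∑ v, chi (ℓ v) = ∑ v, chi (ℓ (v + (c * (ℓ v₀)⁻¹) • v₀)) :=
    (Fintype.sum_equiv (Equiv.addRight ((c * (ℓ v₀)⁻¹) • v₀)) _ _ fun _ => rfl).symm
  have e2 : ∀ v, chi (ℓ (v + (c * (ℓ v₀)⁻¹) • v₀)) = -chi (ℓ v) := fun v => by
    rw [map_add, map_smul, smul_eq_mul, inv_mul_cancel_right₀ hv₀, chi_add hc, chi_of_no_sol hc, mul_neg_one]
  simp only [e2, Finset.sum_neg_distrib] at e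
  omega

omit hc [CharP K 2] [Finite K] in
/-- The Gauss sum of a function. -/
noncomputable def gauss {V : Type*} [Fintype V] (f : V → K) : ℤ := ∑ v, chi (f v)

theorem sum_chi_mul [Fintype K] (x : K) : ∑ t : K, chi (t * x) = if x = 0 then (Fintype.card K : ℤ) else 0 := by
  split_ifs with hx
  · simp [hx, chi_zero]
  · refine sum_chi_linear hc (LinearMap.mulRight K x) fun h => hx ?_
    have := LinearMap.congr_fun h 1
    simpa using this

variable {V : Type*} [AddCommGroup V] [Module K V] [Fintype V]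

/-- A non-singular quadratic form has non-zero Gauss sum. -/
theorem gauss_ne_zero (Q : QuadraticForm K V) (hnd : ∀ v, (∀ w, polarBilin Q v w = 0) → v = 0) :
    gauss (⇑Q) ≠ 0 := by
  have key : gauss (⇑Q) * gauss (⇑Q) = Fintype.card V := by
    rw [gauss, Fintype.sum_mul_sum]
    have e : ∀ v, ∑ w, chi (Q v) * chi (Q w) = ∑ d, chi (Q d) * chi (polarBilin Q d v) := fun v => by
      refine (Fintype.sum_equiv (Equiv.addRight v) _ _ fun d => ?_).symm
      rw [Equiv.coe_addRight, QuadraticMap.map_add (⇑Q), chi_add hc, chi_add hc, polarBilin_apply_apply]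
      linear_combination (-(chi (Q d) * chi (polar (⇑Q) d v))) * chi_mul_self (Q v)
    simp only [e]
    rw [Finset.sum_comm]
    simp only [← Finset.mul_sum]
    rw [Finset.sum_eq_single 0]
    · simp [chi_zero]
    · intro d _ hd
      rw [sum_chi_linear hc (polarBilin Q d) fun h => hd (hnd d fun w => LinearMap.congr_fun h w), mul_zero]
    · intro h; exact absurd (Finset.mem_univ _) h
  intro h
  rw [h, mul_zero] at key
  exact Fintype.card_ne_zero (α := V) (by exact_mod_cast key.symm)

/-- Adding the square of `B (·, b)` multiplies the sum by the sign of `Q b`. -/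
theorem gauss_add_sq (Q : QuadraticForm K V) (b : V) :
    gauss (fun v => Q v + polarBilin Q v b * polarBilin Q v b) = chi (Q b) * gauss (⇑Q) := by
  rw [gauss, gauss, Finset.mul_sum]
  refine Fintype.sum_equiv (Equiv.addRight b) _ _ fun v => ?_
  rw [Equiv.coe_addRight, QuadraticMap.map_add (⇑Q), chi_add hc, chi_sq hc, chi_add hc, chi_add hc,
    polarBilin_apply_apply]
  linear_combination (-(chi (Q v) * chi (polar (⇑Q) v b))) * chi_mul_self (Q b)

end CfsgLib.Classical.OrthEvenClass
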