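import Cfsg.Agent.Lib.Classical.SpEven.Normalize
import Cfsg.Agent.Lib.Classical.SympClassCount
import Cfsg.Agent.Lib.Classical.UnitaryTwistPoly
import Mathlib.FieldTheory.Finite.Trace
import Mathlib.FieldTheory.Finite.GaloisField
import Mathlib.FieldTheory.RatFunc.AsPolynomial

/-!
Palindromic lifts in characteristic two.

The substitution `Y = X + 1 / X` sends monic polynomials of degree `n` to palindromic ones of degree `2 n`.
An irreducible polynomial stays irreducible exactly when the ratio of its two lowest coefficients is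
outside the image of `t ↦ t ^ 2 + t`.
-/

set_option autoImplicit false
set_option linter.style.haveILetI false
set_option linter.unusedSectionVars false

namespace CfsgLib.Classical.OrthEvenClass

open Polynomial

variable {K : Type*} [Field K]

/-- The palindromic lift `X ^ n * h (X + 1 / X)`. -/
noncomputable def palLift (n : ℕ) (h : K[X]) : K[X] :=
  ∑ i ∈ Finset.range (n + 1), C (h.coeff i) * X ^ (n - i) * (X ^ 2 + 1) ^ i

/-- The additive class of `t ^ 2 + t`. -/
def asClass (a : K) : Prop := ∃ t : K, t ^ 2 + t = a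

theorem aeval_palLift {F : Type*} [Field F] [Algebra K F] {y : F} (hy : y ≠ 0) {n : ℕ} {h : K[X]}
    (hn : h.natDegree ≤ n) :
    aeval y (palLift n h) = y ^ n * aeval ((y ^ 2 + 1) / y) h := by
  rw [aeval_eq_sum_range' (n := n + 1) (by omega : h.natDegree < n + 1) ((y ^ 2 + 1) / y), Finset.mul_sum, palLift,
    map_sum]
  refine Finset.sum_congr rfl fun i hi => ?_
  have hi' : i ≤ n := Nat.lt_succ_iff.mp (Finset.mem_range.mp hi)
  simp only [map_mul, map_pow, map_add, map_one, aeval_C, aeval_X, Algebra.smul_def, div_pow]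
  rw [pow_sub₀ _ hy hi']
  field_simp

theorem natDegree_term_le (c : K) (n i : ℕ) (hi : i ≤ n) :
    (C c * X ^ (n - i) * (X ^ 2 + 1 : K[X]) ^ i).natDegree ≤ n + i := by
  refine natDegree_mul_le.trans ?_
  have h1 : (C c * X ^ (n - i) : K[X]).natDegree ≤ n - i := natDegree_C_mul_X_pow_le c _
  have h2 : ((X ^ 2 + 1 : K[X]) ^ i).natDegree ≤ i * 2 :=
    natDegree_pow_le_of_le i (by compute_degree)
  omega

theorem monic_sq_add_one : (X ^ 2 + 1 : K[X]).Monic := by monicity!

theorem coeff_palLift_top {n d : ℕ} {h : K[X]} (hd : h.natDegree = d) (hn : d ≤ n) :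
    (palLift n h).coeff (n + d) = h.coeff d := by
  rw [palLift, finsetSum_coeff, Finset.sum_eq_single d]
  · rw [show n + d = (n - d) + d * 2 by omega, mul_assoc, coeff_C_mul, mul_comm (X ^ (n - d)), add_comm (n - d),
      coeff_mul_X_pow]
    have h1 : ((X ^ 2 + 1 : K[X]) ^ d).Monic := monic_sq_add_one.pow d
    have h2 : ((X ^ 2 + 1 : K[X]) ^ d).natDegree = d * 2 := by
      rw [natDegree_pow, show (X ^ 2 + 1 : K[X]) = X ^ 2 + C 1 by simp, natDegree_X_pow_add_C]
    rw [← h2, h1.coeff_natDegree, mul_one]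
  · intro i hi hne
    rcases Nat.lt_or_gt_of_ne hne with hlt | hgt
    · exact coeff_eq_zero_of_natDegree_lt ((natDegree_term_le _ n i (by omega)).trans_lt (by omega))
    · rw [coeff_eq_zero_of_natDegree_lt (hd ▸ hgt : h.natDegree < i), C_0, zero_mul, zero_mul, coeff_zero]
  · intro h'
    exact absurd (Finset.mem_range.mpr (by omega)) h'

/-- The lift of a monic polynomial is palindromic. -/
theorem isPal_palLift {n : ℕ} {h : K[X]} (hm : h.Monic) (hd : h.natDegree = n) :
    SympClassCount.IsPal n (palLift n h) := by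
  have hle : (palLift n h).natDegree ≤ 2 * n := natDegree_sum_le_of_forall_le _ _ fun i hi =>
    (natDegree_term_le _ n i (Nat.lt_succ_iff.mp (Finset.mem_range.mp hi))).trans
      (by have := Finset.mem_range.mp hi; omega)
  have htop : (palLift n h).coeff (2 * n) = 1 := by
    rw [two_mul, coeff_palLift_top hd le_rfl, ← hd, hm.coeff_natDegree]
  have hdeg : (palLift n h).natDegree = 2 * n :=
    le_antisymm hle (le_natDegree_of_ne_zero (by rw [htop]; exact one_ne_zero))
  refine ⟨by rw [Monic, leadingCoeff, hdeg, htop], hdeg, ?_, ?_⟩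
  · rw [coeff_zero_eq_eval_zero, palLift, eval_finsetSum, Finset.sum_eq_single n]
    · simp [← hd, hm.coeff_natDegree]
    · intro i hi hne
      have : i < n := by have := Finset.mem_range.mp hi; omega
      simp [zero_pow (Nat.sub_ne_zero_of_lt this)]
    · simp
  · rw [Polynomial.reverse, hdeg, palLift]
    have hadd : ∀ (s : Finset ℕ) (f : ℕ → K[X]), reflect (2 * n) (∑ i ∈ s, f i) = ∑ i ∈ s, reflect (2 * n) (f i) := by
      intro s f
      induction s using Finset.induction_on with
      | empty => simp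
      | insert a s ha ih => rw [Finset.sum_insert ha, Finset.sum_insert ha, reflect_add, ih]
    rw [hadd]
    refine Finset.sum_congr rfl fun i hi => ?_
    have hi' : i ≤ n := Nat.lt_succ_iff.mp (Finset.mem_range.mp hi)
    have hq : ∀ j : ℕ, ((X ^ 2 + 1 : K[X]) ^ j).natDegree ≤ 2 * j := fun j => by
      refine (natDegree_pow_le_of_le j (by compute_degree)).trans ?_
      exact (mul_comm j 2).le
    have hs : ∀ j : ℕ, reflect (2 * j) ((X ^ 2 + 1 : K[X]) ^ j) = (X ^ 2 + 1) ^ j := fun j => by
      induction j with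
      | zero => simp
      | succ j ih =>
        rw [pow_succ, Nat.mul_succ, reflect_mul _ _ (hq j) (by compute_degree), ih]
        congr 1
        rw [reflect_add, reflect_monomial, reflect_one]
        simp [revAt_le, add_comm]
    rw [show 2 * n = 2 * (n - i) + 2 * i by omega,
      reflect_mul _ _ ((natDegree_C_mul_X_pow_le _ _).trans (by omega)) (hq i), hs i, reflect_C_mul_X_pow,
      revAt_le (by omega), show 2 * (n - i) - (n - i) = n - i by omega]

/-- The lift is multiplicative. -/
theorem palLift_mul {a b : ℕ} {h k : K[X]} (ha : h.natDegree ≤ a) (hb : k.natDegree ≤ b) :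
    palLift (a + b) (h * k) = palLift a h * palLift b k := by
  apply FaithfulSMul.algebraMap_injective K[X] (RatFunc K)
  have hX : (RatFunc.X : RatFunc K) ≠ 0 := RatFunc.X_ne_zero
  have key : ∀ p : K[X], algebraMap K[X] (RatFunc K) p = aeval (RatFunc.X : RatFunc K) p := fun p => by
    rw [← RatFunc.algebraMap_X, aeval_algebraMap_apply, aeval_X_left_apply]
  rw [map_mul, key, key, key, aeval_palLift hX (natDegree_mul_le.trans (Nat.add_le_add ha hb)),
    aeval_palLift hX ha, aeval_palLift hX hb, map_mul, pow_add]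
  ring

theorem palLift_sub (n : ℕ) (h k : K[X]) : palLift n (h - k) = palLift n h - palLift n k := by
  simp only [palLift, coeff_sub, C_sub, sub_mul, Finset.sum_sub_distrib]

/-- The lift is injective. -/
theorem palLift_injective {n : ℕ} {h k : K[X]} (hh : h.natDegree ≤ n) (hk : k.natDegree ≤ n)
    (e : palLift n h = palLift n k) : h = k := by
  by_contra hne
  have hd : (h - k).natDegree ≤ n := (natDegree_sub_le _ _).trans (max_le hh hk)
  have h0 := coeff_palLift_top (n := n) (h := h - k) rfl hd
  rw [palLift_sub, e, sub_self, coeff_zero] at h0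
  exact leadingCoeff_ne_zero.mpr (sub_ne_zero.mpr hne) h0.symm

/-- The value of the lift at `1`. -/
theorem eval_palLift_one [CharP K 2] (n : ℕ) (h : K[X]) : (palLift n h).eval 1 = h.coeff 0 := by
  rw [palLift, eval_finsetSum, Finset.sum_eq_single 0]
  · simp
  · intro i _ hi
    simp [CharTwo.add_self_eq_zero (1 : K), zero_pow hi]
  · simp

variable [CharP K 2]

theorem asClass_zero : asClass (0 : K) := ⟨0, by simp⟩

theorem asClass_add {a b : K} (ha : asClass a) (hb : asClass b) : asClass (a + b) := by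
  obtain ⟨s, rfl⟩ := ha
  obtain ⟨t, rfl⟩ := hb
  exact ⟨s + t, by rw [add_pow_char]; ring⟩

theorem asClass_sq_add (a : K) : asClass (a ^ 2 + a) := ⟨a, rfl⟩

theorem asClass_sq {a : K} : asClass (a ^ 2) ↔ asClass a := by
  constructor <;> intro h
  · have h' := asClass_add h (asClass_sq_add a)
    rwa [← add_assoc, CharTwo.add_self_eq_zero, zero_add] at h'
  · have h' := asClass_add h (asClass_sq_add a)
    rwa [add_left_comm, CharTwo.add_self_eq_zero, add_zero] at h'

variable [Finite K]

/-- Some element lies outside the image. -/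
theorem exists_not_asClass : ∃ c : K, ¬ asClass c := by
  by_contra h
  push Not at h
  have hsurj : Function.Surjective fun t : K => t ^ 2 + t := h
  exact zero_ne_one (Finite.injective_iff_surjective.mpr hsurj (a₁ := 0) (a₂ := 1)
    (by simp [CharTwo.add_self_eq_zero (1 : K)]))

/-- The classes add like signs. -/
theorem asClass_add_iff {a b : K} : asClass (a + b) ↔ (asClass a ↔ asClass b) := by
  have hab : ∀ x y : K, asClass (x + y) → asClass x → asClass y := fun x y h hx => by
    have h' := asClass_add h hx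
    rwa [add_comm x y, add_assoc, CharTwo.add_self_eq_zero, add_zero] at h'
  refine ⟨fun h => ⟨hab a b h, hab b a (by rwa [add_comm])⟩, fun h => ?_⟩
  by_cases ha : asClass a
  · exact asClass_add ha (h.mp ha)
  · have hb : ¬ asClass b := fun hb => ha (h.mpr hb)
    obtain ⟨t, ht | ht⟩ := SpEven.artin_schreier (c := b) (fun t ht => hb ⟨t, ht⟩) a
    · exact absurd ⟨t, ht⟩ ha
    · exact ⟨t, ht⟩

/-- The ratio of the two lowest coefficients of a product. -/
theorem ratio_mul {h k : K[X]} (hh : h.coeff 0 ≠ 0) (hk : k.coeff 0 ≠ 0) :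
    (h * k).coeff 1 / (h * k).coeff 0 = h.coeff 1 / h.coeff 0 + k.coeff 1 / k.coeff 0 := by
  rw [mul_coeff_zero, Polynomial.coeff_mul, Finset.Nat.sum_antidiagonal_eq_sum_range_succ_mk, Finset.sum_range_succ,
    Finset.sum_range_one]
  field_simp
  ring

/-- The class of a product. -/
theorem asClass_ratio_mul {h k : K[X]} (hh : h.coeff 0 ≠ 0) (hk : k.coeff 0 ≠ 0) :
    asClass ((h * k).coeff 1 / (h * k).coeff 0) ↔
      (asClass (h.coeff 1 / h.coeff 0) ↔ asClass (k.coeff 1 / k.coeff 0)) := by
  rw [ratio_mul hh hk, asClass_add_iff]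

/-! ### The trace -/

section trace

variable (L : Type*) [Field L] [Algebra K L] [Finite L] [CharP L 2]

theorem asClass_trace_iff (x : L) : asClass (Algebra.trace K L x) ↔ asClass x := by
  have hsq : ∀ z : L, Algebra.trace K L (z ^ 2) = Algebra.trace K L z ^ 2 := fun z => by
    apply FaithfulSMul.algebraMap_injective K L
    rw [map_pow (algebraMap K L) (Algebra.trace K L z) 2, FiniteField.algebraMap_trace_eq_sum_pow, FiniteField.algebraMap_trace_eq_sum_pow, CharTwo.sum_sq]
    exact Finset.sum_congr rfl fun i _ => by rw [← pow_mul, ← pow_mul, mul_comm]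
  have hfwd : ∀ z : L, asClass z → asClass (Algebra.trace K L z) := by
    rintro _ ⟨t, rfl⟩
    exact ⟨Algebra.trace K L t, by rw [map_add, hsq]⟩
  refine ⟨fun h => ?_, hfwd x⟩
  obtain ⟨c, hc⟩ := exists_not_asClass (K := K)
  haveI : FiniteDimensional K L := Module.Finite.of_finite
  obtain ⟨x₀, hx₀⟩ := Algebra.trace_surjective K L c
  have hx₀' : ∀ t : L, t ^ 2 + t ≠ x₀ := fun t ht => hc (hx₀ ▸ hfwd x₀ ⟨t, ht⟩)
  obtain ⟨t, ht | ht⟩ := SpEven.artin_schreier hx₀' x
  · exact ⟨t, ht⟩
  · have h' := hfwd (x + x₀) ⟨t, ht⟩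
    rw [map_add, hx₀, asClass_add_iff] at h'
    exact absurd (h'.mp h) hc

end trace

/-! ### Irreducible polynomials -/

theorem natDegree_minpoly_of_generates {F : Type*} [Field F] [Algebra K F] [FiniteDimensional K F] {x : F}
    (h : IntermediateField.adjoin K ({x} : Set F) = ⊤) :
    (minpoly K x).natDegree = Module.finrank K F := by
  rw [← IntermediateField.adjoin.finrank (IsIntegral.of_finite K x), h, IntermediateField.finrank_top']

/-- An element generating the field and root of a monic polynomial of that degree. -/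
theorem minpoly_eq_of_generates {F : Type*} [Field F] [Algebra K F] [FiniteDimensional K F] {x : F}
    (h : IntermediateField.adjoin K ({x} : Set F) = ⊤) {f : K[X]} (hm : f.Monic)
    (hdeg : f.natDegree = Module.finrank K F) (hx : aeval x f = 0) : minpoly K x = f :=
  (eq_of_monic_of_dvd_of_natDegree_le (minpoly.monic (IsIntegral.of_finite K x)) hm (minpoly.dvd K x hx)
    (by rw [natDegree_minpoly_of_generates h, hdeg])).symm

theorem aeval_tw_inv {F : Type*} [Field F] [Algebra K F] {x : F} (hx : x ≠ 0) {f : K[X]}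
    (h : aeval x f = 0) : aeval x⁻¹ (UnitaryTwistPoly.tw (RingHom.id K) f) = 0 := by
  letI : Invertible x := invertibleOfNonzero hx
  rw [UnitaryTwistPoly.tw, Polynomial.map_id, map_mul]
  refine mul_eq_zero_of_right _ ?_
  have h' := Polynomial.eval₂_reverse_mul_pow (algebraMap K F) x f
  rw [invOf_eq_inv, ← aeval_def, ← aeval_def, h] at h'
  exact (mul_eq_zero.mp h').resolve_right (pow_ne_zero _ hx)

/-- The two possibilities for the lift of an irreducible polynomial. -/
theorem palLift_irreducible_cases {r : K[X]} (hm : r.Monic) (hi : Irreducible r) {d : ℕ} (hd : r.natDegree = d)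
    (h0 : r.coeff 0 ≠ 0) :
    (asClass (r.coeff 1 / r.coeff 0) → ∃ g : K[X], g.Monic ∧ g.natDegree = d ∧ g.coeff 0 ≠ 0 ∧ Irreducible g ∧
      g ≠ UnitaryTwistPoly.tw (RingHom.id K) g ∧
      palLift d r = g * UnitaryTwistPoly.tw (RingHom.id K) g) ∧
    (¬ asClass (r.coeff 1 / r.coeff 0) → Irreducible (palLift d r)) := by
  haveI := Fact.mk hi
  set L := AdjoinRoot r
  haveI : FiniteDimensional K L := (AdjoinRoot.powerBasis hm.ne_zero).finite
  haveI : Finite L := Module.finite_of_finite K
  haveI : CharP L 2 := charP_of_injective_algebraMap (algebraMap K L).injective 2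
  set β : L := AdjoinRoot.root r
  have hfin : Module.finrank K L = d := by
    rw [(AdjoinRoot.powerBasis hm.ne_zero).finrank, AdjoinRoot.powerBasis_dim, hd]
  have hβroot : aeval β r = 0 := by rw [AdjoinRoot.aeval_eq, AdjoinRoot.mk_self]
  have hβ0 : β ≠ 0 := fun e => by
    rw [e, ← coeff_zero_eq_aeval_zero'] at hβroot
    exact h0 ((map_eq_zero _).mp hβroot)
  have hgen : ∀ x : L, β ∈ IntermediateField.adjoin K ({x} : Set L) → IntermediateField.adjoin K ({x} : Set L) = ⊤ := by
    intro x hx
    refine IntermediateField.toSubalgebra_injective ?_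
    rw [IntermediateField.top_toSubalgebra]
    refine top_le_iff.mp ?_
    rw [← AdjoinRoot.adjoinRoot_eq_top (f := r), Algebra.adjoin_le_iff,
      Set.singleton_subset_iff]
    exact hx
  -- the trace of `1 / β`
  have hinvgen := hgen β⁻¹ (by
    have h := inv_mem (IntermediateField.mem_adjoin_simple_self K β⁻¹)
    rwa [inv_inv] at h)
  have hd1 : 1 ≤ d := hd ▸ hi.natDegree_pos
  have htr : Algebra.trace K L β⁻¹ = r.coeff 1 / r.coeff 0 := by
    have htm : minpoly K β⁻¹ = UnitaryTwistPoly.tw (RingHom.id K) r :=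
      minpoly_eq_of_generates hinvgen (UnitaryTwistPoly.monic_tw _ h0)
        (by rw [UnitaryTwistPoly.natDegree_tw _ h0, hd, hfin]) (aeval_tw_inv hβ0 hβroot)
    rw [trace_eq_finrank_mul_minpoly_nextCoeff, hinvgen, IntermediateField.finrank_top, Nat.cast_one, one_mul, htm,
      CharTwo.neg_eq, nextCoeff, UnitaryTwistPoly.natDegree_tw _ h0, hd, if_neg (by omega),
      UnitaryTwistPoly.coeff_tw, hd, revAt_le (by omega), show d - (d - 1) = 1 by omega, RingHom.id_apply,
      RingHom.id_apply, div_eq_inv_mul]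
  have hAS : asClass (r.coeff 1 / r.coeff 0) ↔ asClass β⁻¹ := by rw [← htr, asClass_trace_iff]
  have hpal := isPal_palLift hm hd
  constructor
  · intro h
    obtain ⟨t, ht⟩ := hAS.mp h
    obtain ⟨y, hy⟩ : ∃ y : L, y = β * t ^ 2 := ⟨_, rfl⟩
    have hy1 : y ^ 2 + 1 = β * y := by
      have h2 : (t ^ 2) ^ 2 + t ^ 2 = β⁻¹ ^ 2 := by rw [← ht, add_pow_char]
      have h3 : y ^ 2 + β * y = 1 := by
        rw [hy]
        calc (β * t ^ 2) ^ 2 + β * (β * t ^ 2) = β ^ 2 * ((t ^ 2) ^ 2 + t ^ 2) := by ring
          _ = 1 := by rw [h2, ← mul_pow, mul_inv_cancel₀ hβ0, one_pow]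
      linear_combination h3 - CharTwo.add_self_eq_zero (β * y - 1)
    have hy0 : y ≠ 0 := fun e => by rw [e] at hy1; simp at hy1
    have hβy : β = (y ^ 2 + 1) / y := by rw [hy1, mul_div_cancel_right₀ _ hy0]
    have hygen := hgen y (by
      rw [hβy]
      have hmem := IntermediateField.mem_adjoin_simple_self K y
      exact div_mem (add_mem (pow_mem hmem 2) (one_mem _)) hmem)
    set g := minpoly K y
    have hgm : g.Monic := minpoly.monic (IsIntegral.of_finite K y)
    have hgd : g.natDegree = d := (natDegree_minpoly_of_generates hygen).trans hfin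
    have hg0 : g.coeff 0 ≠ 0 := minpoly.coeff_zero_ne_zero (IsIntegral.of_finite K y) hy0
    have hgi : Irreducible g := minpoly.irreducible (IsIntegral.of_finite K y)
    have hlift : aeval y (palLift d r) = 0 := by
      rw [aeval_palLift hy0 hd.le, ← hβy, hβroot, mul_zero]
    have hdvd : g ∣ palLift d r := minpoly.dvd K y hlift
    set g' := UnitaryTwistPoly.tw (RingHom.id K) g
    have htwf : UnitaryTwistPoly.tw (RingHom.id K) (palLift d r) = palLift d r := by
      rw [UnitaryTwistPoly.tw, Polynomial.map_id, RingHom.id_apply, hpal.2.2.1, inv_one, C_1, one_mul, hpal.2.2.2]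
    have hdvd' : g' ∣ palLift d r := htwf ▸ UnitaryTwistPoly.tw_dvd _ hdvd
    have hne : g ≠ g' := by
      intro e
      have hyy : IsConjRoot K y y⁻¹ := by
        rw [isConjRoot_def]
        have hinv : IntermediateField.adjoin K ({y⁻¹} : Set L) = ⊤ := hgen _ (by
          have hmem := IntermediateField.mem_adjoin_simple_self K y⁻¹
          have hmem' := inv_mem hmem
          rw [inv_inv] at hmem'
          rw [hβy]
          exact div_mem (add_mem (pow_mem hmem' 2) (one_mem _)) hmem')
        exact (minpoly_eq_of_generates hinv hgm (by rw [hgd, hfin]) (by rw [e]; exact aeval_tw_inv hy0 (minpoly.aeval K y))).symm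
      obtain ⟨σ, hσ⟩ := hyy.exists_algEquiv
      have hσy : σ y = y⁻¹ := by
        rw [map_inv₀] at hσ
        rw [← inv_inv (σ y), hσ]
      have hfix : σ β = β := by
        rw [hβy, map_div₀, map_add, map_pow, map_one, hσy]
        rw [inv_pow, div_inv_eq_mul, eq_div_iff hy0, mul_assoc, ← sq, add_mul,
          inv_mul_cancel₀ (pow_ne_zero 2 hy0), one_mul, add_comm]
      have hid : σ.toAlgHom = AlgHom.id K L := AdjoinRoot.algHom_ext (by exact hfix)
      have hyfix : y⁻¹ = y := by
        have h4 := AlgHom.congr_fun hid y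
        simp only [AlgEquiv.toAlgHom_eq_coe, AlgHom.coe_coe, AlgHom.id_apply] at h4
        rw [← hσy]
        exact h4
      have hy2 : y ^ 2 = 1 := by rw [sq]; nth_rewrite 1 [← hyfix]; exact inv_mul_cancel₀ hy0
      rw [hy2, CharTwo.add_self_eq_zero] at hy1
      exact mul_ne_zero hβ0 hy0 hy1.symm
    have hg'i : Irreducible g' := by
      have hgen' : IntermediateField.adjoin K ({y⁻¹} : Set L) = ⊤ := hgen _ (by
        have hmem := inv_mem (IntermediateField.mem_adjoin_simple_self K y⁻¹)
        rw [inv_inv] at hmem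
        rw [hβy]
        exact div_mem (add_mem (pow_mem hmem 2) (one_mem _)) hmem)
      rw [show g' = minpoly K y⁻¹ from (minpoly_eq_of_generates hgen' (UnitaryTwistPoly.monic_tw _ hg0)
        (by rw [UnitaryTwistPoly.natDegree_tw _ hg0, hgd, hfin]) (aeval_tw_inv hy0 (minpoly.aeval K y))).symm]
      exact minpoly.irreducible (IsIntegral.of_finite K _)
    have hcop : IsCoprime g g' := hgi.coprime_iff_not_dvd.mpr fun h1 =>
      hne (eq_of_monic_of_associated hgm (UnitaryTwistPoly.monic_tw _ hg0) (hgi.associated_of_dvd hg'i h1))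
    refine ⟨g, hgm, hgd, hg0, hgi, hne, eq_of_monic_of_dvd_of_natDegree_le (hgm.mul (UnitaryTwistPoly.monic_tw _ hg0))
      hpal.1 (hcop.mul_dvd hdvd hdvd') ?_⟩
    rw [hpal.2.1, hgm.natDegree_mul (UnitaryTwistPoly.monic_tw _ hg0), UnitaryTwistPoly.natDegree_tw _ hg0, hgd]
    omega
  · intro h
    have hne1 : palLift d r ≠ 1 := fun e => by
      have h2 := hpal.2.1
      rw [e, natDegree_one] at h2
      omega
    obtain ⟨g, hgm, hgi, hgdvd⟩ := Polynomial.exists_monic_irreducible_factor (palLift d r)
      (fun hu => hne1 (hpal.1.eq_one_of_isUnit hu))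
    haveI := Fact.mk hgi
    haveI : FiniteDimensional K (AdjoinRoot g) := (AdjoinRoot.powerBasis hgi.ne_zero).finite
    set y : AdjoinRoot g := AdjoinRoot.root g
    have hyroot : aeval y (palLift d r) = 0 := by
      rw [AdjoinRoot.aeval_eq, AdjoinRoot.mk_eq_zero]
      exact hgdvd
    have hy0 : y ≠ 0 := fun e => by
      rw [e, ← coeff_zero_eq_aeval_zero', hpal.2.2.1, map_one] at hyroot
      exact one_ne_zero hyroot
    set γ : AdjoinRoot g := (y ^ 2 + 1) / y
    have hγ : aeval γ r = 0 := by
      rw [aeval_palLift hy0 hd.le] at hyroot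
      exact (mul_eq_zero.mp hyroot).resolve_left (pow_ne_zero _ hy0)
    set φ : L →ₐ[K] AdjoinRoot g := AdjoinRoot.liftAlgHom r (Algebra.ofId K _) γ hγ
    have hφ : φ β = γ := AdjoinRoot.liftAlgHom_root _ _ _ _
    -- the root is not in the image
    have hout : y ∉ φ.fieldRange := by
      rintro ⟨z, hz⟩
      change φ z = y at hz
      have h1 : z ^ 2 + 1 = β * z := by
        refine φ.toRingHom.injective ?_
        show φ (z ^ 2 + 1) = φ (β * z)
        rw [map_add, map_mul, map_pow, map_one, hz, hφ, div_mul_cancel₀ _ hy0]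
      have h2 : z ^ 2 + β * z = 1 := by linear_combination h1 + (CharTwo.add_self_eq_zero (β * z - 1))
      have h3 : (z / β) ^ 2 + z / β = β⁻¹ ^ 2 := by
        rw [show (z / β) ^ 2 + z / β = (z ^ 2 + β * z) * β⁻¹ ^ 2 by
          rw [add_mul, inv_pow, ← div_eq_mul_inv, ← div_eq_mul_inv, div_pow, sq β, mul_div_mul_left z β hβ0],
          h2, one_mul]
      exact h (hAS.mpr (asClass_sq.mp ⟨z / β, h3⟩))
    have hE : Module.finrank K φ.fieldRange = d := by
      rw [← hfin]
      exact (AlgEquiv.ofInjectiveField φ).toLinearEquiv.finrank_eq.symm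
    have hgdeg : Module.finrank K (AdjoinRoot g) = g.natDegree := by
      rw [(AdjoinRoot.powerBasis hgi.ne_zero).finrank, AdjoinRoot.powerBasis_dim]
    have htower := Module.finrank_mul_finrank K φ.fieldRange (AdjoinRoot g)
    have htwo : 2 ≤ Module.finrank φ.fieldRange (AdjoinRoot g) := by
      by_contra hlt
      have hpos : 0 < Module.finrank φ.fieldRange (AdjoinRoot g) := Module.finrank_pos
      have heq : φ.fieldRange = ⊤ := by
        refine IntermediateField.eq_of_le_of_finrank_le le_top ?_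
        rw [IntermediateField.finrank_top', ← htower, show Module.finrank φ.fieldRange (AdjoinRoot g) = 1 by omega,
          mul_one]
      exact hout (heq ▸ IntermediateField.mem_top)
    have hge : 2 * d ≤ g.natDegree := by
      rw [← hgdeg, ← htower, hE, mul_comm 2]
      exact Nat.mul_le_mul_left d htwo
    rw [← eq_of_monic_of_dvd_of_natDegree_le hgm hpal.1 hgdvd (by rw [hpal.2.1]; omega)] at hgi
    exact hgi

/-- A split lift. -/
theorem exists_split_of_asClass {r : K[X]} (hm : r.Monic) (hi : Irreducible r) {d : ℕ} (hd : r.natDegree = d)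
    (h0 : r.coeff 0 ≠ 0) (h : asClass (r.coeff 1 / r.coeff 0)) :
    ∃ g : K[X], g.Monic ∧ g.natDegree = d ∧ g.coeff 0 ≠ 0 ∧
      palLift d r = g * UnitaryTwistPoly.tw (RingHom.id K) g := by
  obtain ⟨g, h1, h2, h3, -, -, h4⟩ := (palLift_irreducible_cases hm hi hd h0).1 h
  exact ⟨g, h1, h2, h3, h4⟩

/-- An inert lift. -/
theorem irreducible_palLift {r : K[X]} (hm : r.Monic) (hi : Irreducible r) {d : ℕ} (hd : r.natDegree = d)
    (h0 : r.coeff 0 ≠ 0) (h : ¬ asClass (r.coeff 1 / r.coeff 0)) : Irreducible (palLift d r) :=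
  (palLift_irreducible_cases hm hi hd h0).2 h

/-! ### Counting -/

/-- The monic polynomials of degree `n` with non-zero constant term. -/
theorem card_monic_ne_zero {n : ℕ} (hn : 1 ≤ n) :
    Nat.card {h : K[X] // h.Monic ∧ h.natDegree = n ∧ h.coeff 0 ≠ 0} = (Nat.card K - 1) * Nat.card K ^ (n - 1) := by
  classical
  obtain ⟨k, rfl⟩ : ∃ k, n = k + 1 := ⟨n - 1, by omega⟩
  let e := (monicEquivDegreeLT (R := K) (k + 1)).trans (degreeLTEquiv K (k + 1)).toEquiv
  have he : ∀ p i, e p i = p.1.coeff i.1 := fun p i => by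
    have hlt : i.1 < k + 1 := i.2
    simp [e, degreeLTEquiv, monicEquivDegreeLT, coeff_X_pow, hlt.ne, eraseLead_coeff_of_ne, p.2.2]
  let f : {h : K[X] // h.Monic ∧ h.natDegree = k + 1 ∧ h.coeff 0 ≠ 0} ≃ {v : Fin (k + 1) → K // v 0 ≠ 0} :=
    (Equiv.subtypeEquivRight fun h => (and_assoc).symm).trans
      ((Equiv.subtypeSubtypeEquivSubtypeInter (fun h : K[X] => h.Monic ∧ h.natDegree = k + 1)
        fun h => h.coeff 0 ≠ 0).symm.trans (e.subtypeEquiv fun p => by rw [he]; rfl))
  let g : {v : Fin (k + 1) → K // v 0 ≠ 0} ≃ {x : K // x ≠ 0} × (Fin k → K) :=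
    { toFun := fun v => (⟨v.1 0, v.2⟩, Fin.tail v.1)
      invFun := fun x => ⟨Fin.cons x.1.1 x.2, by simpa using x.1.2⟩
      left_inv := fun v => Subtype.ext (Fin.cons_self_tail v.1)
      right_inv := fun x => Prod.ext (Subtype.ext (by simp)) (by simp) }
  have : Fintype K := Fintype.ofFinite K
  rw [Nat.card_congr (f.trans g), Nat.card_prod, Nat.card_fun, Nat.card_fin, Nat.add_sub_cancel]
  congr 1
  rw [Nat.card_eq_fintype_card, Nat.card_eq_fintype_card, Fintype.card_subtype_compl, Fintype.card_subtype_eq]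

/-- Both classes are equally frequent. -/
theorem two_mul_card_ratio_class {n : ℕ} (hn : 2 ≤ n) (b : Bool) :
    2 * Nat.card {h : K[X] // h.Monic ∧ h.natDegree = n ∧ h.coeff 0 ≠ 0 ∧
        (asClass (h.coeff 1 / h.coeff 0) ↔ b = true)} = (Nat.card K - 1) * Nat.card K ^ (n - 1) := by
  classical
  haveI : Finite {h : K[X] // h.Monic ∧ h.natDegree = n ∧ h.coeff 0 ≠ 0} := by
    have : Finite {h : K[X] // h.Monic ∧ h.natDegree = n} :=
      Finite.of_equiv _ ((monicEquivDegreeLT (R := K) n).trans (degreeLTEquiv K n).toEquiv).symm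
    exact Finite.of_injective (fun h => (⟨h.1, h.2.1, h.2.2.1⟩ : {h : K[X] // h.Monic ∧ h.natDegree = n}))
      fun x y e => Subtype.ext (congrArg Subtype.val e :)
  obtain ⟨c, hc⟩ := exists_not_asClass (K := K)
  let A : Bool → Type _ := fun b => {h : K[X] // h.Monic ∧ h.natDegree = n ∧ h.coeff 0 ≠ 0 ∧
    (asClass (h.coeff 1 / h.coeff 0) ↔ b = true)}
  let sh : K[X] → K[X] := fun h => h + C (c * h.coeff 0) * X
  have hsh0 : ∀ h : K[X], (sh h).coeff 0 = h.coeff 0 := fun h => by simp [sh]
  have hsh : ∀ h : K[X], sh (sh h) = h := fun h => by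
    rw [show sh (sh h) = sh h + C (c * (sh h).coeff 0) * X from rfl, hsh0]
    simp only [sh]
    rw [add_assoc, ← add_mul, ← C_add, CharTwo.add_self_eq_zero, C_0, zero_mul, add_zero]
  have hmap : ∀ b (h : A b), (sh h.1).Monic ∧ (sh h.1).natDegree = n ∧ (sh h.1).coeff 0 ≠ 0 ∧
      (asClass ((sh h.1).coeff 1 / (sh h.1).coeff 0) ↔ (!b) = true) := by
    rintro b ⟨h, hm, hdeg, h0, hb⟩
    have hlt : (C (c * h.coeff 0) * X).degree < h.degree := by
      rw [degree_eq_natDegree hm.ne_zero, hdeg]
      exact (degree_C_mul_X_le _).trans_lt (by exact_mod_cast (show 1 < n by omega))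
    refine ⟨hm.add_of_left hlt, ?_, by rw [hsh0]; exact h0, ?_⟩
    · rw [natDegree_eq_of_degree_eq (degree_add_eq_left_of_degree_lt hlt), hdeg]
    · rw [hsh0, show (sh h).coeff 1 = h.coeff 1 + c * h.coeff 0 by simp [sh], add_div,
        mul_div_cancel_right₀ _ h0, asClass_add_iff, hb]
      cases b <;> simp [hc]
  have hfin : ∀ b, Finite (A b) := fun b => Finite.of_injective
    (fun h : A b => (⟨h.1, h.2.1, h.2.2.1, h.2.2.2.1⟩ : {h : K[X] // h.Monic ∧ h.natDegree = n ∧ h.coeff 0 ≠ 0}))
    fun x y e => Subtype.ext (congrArg Subtype.val e :)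
  have heq : Nat.card (A b) = Nat.card (A (!b)) := Nat.card_congr
    { toFun := fun h => ⟨sh h.1, hmap b h⟩
      invFun := fun h => ⟨sh h.1, by simpa using hmap (!b) h⟩
      left_inv := fun h => Subtype.ext (hsh h.1)
      right_inv := fun h => Subtype.ext (hsh h.1) }
  have hsum : Nat.card (A b) + Nat.card (A (!b)) =
      Nat.card {h : K[X] // h.Monic ∧ h.natDegree = n ∧ h.coeff 0 ≠ 0} := by
    let P : K[X] → Prop := fun h => asClass (h.coeff 1 / h.coeff 0) ↔ b = true
    rw [← Nat.card_congr (Equiv.sumCompl (fun h : {h : K[X] // h.Monic ∧ h.natDegree = n ∧ h.coeff 0 ≠ 0} => P h.1)),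
      Nat.card_sum]
    congr 1
    · exact Nat.card_congr
        { toFun := fun h => ⟨⟨h.1, h.2.1, h.2.2.1, h.2.2.2.1⟩, h.2.2.2.2⟩
          invFun := fun h => ⟨h.1.1, h.1.2.1, h.1.2.2.1, h.1.2.2.2, h.2⟩
          left_inv := fun h => rfl
          right_inv := fun h => rfl }
    · exact Nat.card_congr
        { toFun := fun h => ⟨⟨h.1, h.2.1, h.2.2.1, h.2.2.2.1⟩, by
            have := h.2.2.2.2
            show ¬ P h.1
            simp only [P]
            cases b <;> simp_all⟩
          invFun := fun h => ⟨h.1.1, h.1.2.1, h.1.2.2.1, h.1.2.2.2, by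
            have := h.2
            simp only [P] at this
            cases b <;> simp_all⟩
          left_inv := fun h => rfl
          right_inv := fun h => rfl }
  rw [card_monic_ne_zero (show 1 ≤ n by omega)] at hsum
  show 2 * Nat.card (A b) = _
  omega

end CfsgLib.Classical.OrthEvenClass
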