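import Cfsg.Agent.Lib.Classical.OrthPrimeReal
import Cfsg.Agent.Lib.Classical.OrthEvenClass.Lift

/-!
Lower bounds for the numbers of classes of the orthogonal groups of even dimension in characteristic two.

Every monic polynomial of degree `n` lifts to the characteristic polynomial of an isometry of odd order.
The type of the space is forced by the class of the ratio of the two lowest coefficients when the constant
term is non-zero, and both types occur otherwise.
-/

set_option autoImplicit false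
set_option linter.style.haveILetI false
set_option linter.unusedSectionVars false

namespace CfsgLib.Classical.OrthEvenClass

open Polynomial Module CfsgLib.Classical.OrthPrimeReal CfsgLib.Classical.OrthModels

universe u

variable {F : Type u} [Field F]

theorem palLift_zero_one : palLift 0 (1 : F[X]) = 1 := by simp [palLift]

theorem palLift_one_X [CharP F 2] : palLift 1 (X : F[X]) = (X - 1) ^ 2 := by
  have e : ((X : F[X]) - 1) ^ 2 = X ^ 2 + 1 := by rw [CharTwo.sub_eq_add, CharTwo.add_sq, one_pow]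
  rw [e, palLift, Finset.sum_range_succ, Finset.sum_range_one]
  simp

section sums

variable {R k l : ℕ} {a b : F} {f g : F[X]}

theorem real_pp (hf : Real R (Cfsg.quadFormPlus k F) f) (hg : Real R (Cfsg.quadFormPlus l F) g) :
    Real R (Cfsg.quadFormPlus (k + l) F) (f * g) := (hf.sum hg).of_iso (plus_plus k l)

theorem real_pm (hf : Real R (Cfsg.quadFormPlus k F) f) (hg : Real R (Cfsg.quadFormMinus l F a b) g) :
    Real R (Cfsg.quadFormMinus (k + l) F a b) (f * g) := (hf.sum hg).of_iso (plus_minus k l a b)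

variable [Fintype F]

theorem real_mm (hab : ∀ z₁ z₂ : F, z₁ ^ 2 + a * z₁ * z₂ + b * z₂ ^ 2 = 0 → z₁ = 0 ∧ z₂ = 0)
    (hf : Real R (Cfsg.quadFormMinus k F a b) f) (hg : Real R (Cfsg.quadFormMinus l F a b) g) :
    Real R (Cfsg.quadFormPlus (k + l + 2) F) (f * g) := (hf.sum hg).of_iso (minus_minus k l a b hab)

end sums

theorem fact_two : Fact (Nat.Prime 2) := ⟨Nat.prime_two⟩

variable [Fintype F] [CharP F 2]

theorem exists_card_two_pow : ∃ k : ℕ, Fintype.card F = 2 ^ k := by
  obtain ⟨k, -, hk⟩ := FiniteField.card F 2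
  exact ⟨k, hk⟩

/-- An inert lift is not realised on the split space. -/
theorem not_real_plus_palLift {R d : ℕ} {r : F[X]} (hm : r.Monic) (hi : Irreducible r) (hd : r.natDegree = d)
    (h0 : r.coeff 0 ≠ 0) (h : ¬ asClass (r.coeff 1 / r.coeff 0)) :
    ¬ Real R (Cfsg.quadFormPlus d F) (palLift d r) := by
  classical
  rintro ⟨T, hT, -, hTc⟩
  haveI := fact_two
  have hd1 : 1 ≤ d := hd ▸ hi.natDegree_pos
  have hPi := irreducible_palLift hm hi hd h0 h
  obtain ⟨hPm, hPd, hP0, -⟩ := isPal_palLift hm hd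
  have hP1 : (palLift d r).eval 1 ≠ 0 := by rwa [eval_palLift_one]
  have hPT : aeval T (palLift d r) = 0 := hTc ▸ LinearMap.aeval_self_charpoly T
  have hlift : ∀ (L : Type u) [Field L] [Algebra F L] (x : L), x ≠ 0 → aeval x (palLift d r) = 0 →
      aeval ((x ^ 2 + 1) / x) r = 0 := fun L _ _ x hx hxr => by
    rw [aeval_palLift hx hd.le] at hxr
    exact (mul_eq_zero.mp hxr).resolve_left (pow_ne_zero _ hx)
  generalize hP : palLift d r = P at hPi hPm hPd hP0 hP1 hPT hTc hlift
  haveI := Fact.mk hPi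
  haveI : FiniteDimensional F (AdjoinRoot P) := (AdjoinRoot.powerBasis hPi.ne_zero).finite
  haveI : Finite (AdjoinRoot P) := Module.finite_of_finite F
  haveI : CharP (AdjoinRoot P) 2 := charP_of_injective_algebraMap (algebraMap F (AdjoinRoot P)).injective 2
  set y : AdjoinRoot P := AdjoinRoot.root P
  have hy : ∀ f : F[X], aeval y f = 0 ↔ P ∣ f := fun f => by
    rw [AdjoinRoot.aeval_eq, AdjoinRoot.mk_eq_zero]
  have hroot : aeval y P = 0 := (hy P).mpr dvd_rfl
  have hy0 : y ≠ 0 := fun e => by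
    rw [e, ← coeff_zero_eq_aeval_zero', hP0, map_one] at hroot
    exact one_ne_zero hroot
  -- the root has order dividing `q ^ d + 1`
  obtain ⟨k, hk⟩ := exists_card_two_pow (F := F)
  set q := Fintype.card F with hq
  have hqd : (y : AdjoinRoot P) ^ (q ^ d + 1) = 1 := by
    set β := (y ^ 2 + 1) / y with hβ
    have hβr : aeval β r = 0 := hlift _ y hy0 hroot
    have hβq : β ^ q ^ d = β := by
      obtain ⟨c, hc⟩ := (hi.natDegree_dvd_iff_dvd_X_pow_card_pow_sub_X (n := d)).mp (hd ▸ dvd_rfl)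
      have e := congrArg (aeval β) hc
      rw [map_mul, hβr, zero_mul, map_sub, map_pow, aeval_X, sub_eq_zero, Nat.card_eq_fintype_card] at e
      exact e
    set z := y ^ q ^ d with hz
    have hz0 : z ≠ 0 := pow_ne_zero _ hy0
    have hzβ : (z ^ 2 + 1) / z = β := by
      have hfr : ∀ x : AdjoinRoot P, (x ^ 2 + 1) ^ (q ^ d) = (x ^ q ^ d) ^ 2 + 1 := fun x => by
        rw [hk, ← pow_mul 2, add_pow_char_pow (p := 2), one_pow, ← pow_mul, ← pow_mul, mul_comm 2]
      conv_rhs => rw [← hβq, hβ, div_pow, hfr, ← hz]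
    have hzy : (z - y) * (z * y - 1) = 0 := by
      rw [hβ, div_eq_div_iff hz0 hy0] at hzβ
      linear_combination hzβ
    rcases mul_eq_zero.mp hzy with e | e
    · exfalso
      have hdvd : P ∣ X ^ Nat.card F ^ d - X := (hy _).mp (by
        rw [map_sub, map_pow, aeval_X, Nat.card_eq_fintype_card]
        exact e)
      have := Nat.le_of_dvd (by omega) (hPi.natDegree_dvd_of_dvd_X_pow_card_pow_sub_X hdvd)
      omega
    · rw [pow_succ]
      exact sub_eq_zero.mp e
  -- a prime divisor of the order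
  have hy1 : y ≠ 1 := fun e => by
    rw [e, show (1 : AdjoinRoot P) = algebraMap F _ 1 from (map_one _).symm, aeval_algebraMap_apply, map_eq_zero,
      coe_aeval_eq_eval] at hroot
    exact hP1 hroot
  set o := orderOf y
  have ho1 : o ≠ 1 := fun e => hy1 (orderOf_eq_one_iff.mp e)
  set ℓ := o.minFac
  have hℓ : ℓ.Prime := Nat.minFac_prime ho1
  haveI := Fact.mk hℓ
  obtain ⟨m, hom⟩ : ℓ ∣ o := Nat.minFac_dvd o
  have ho0 : 0 < o := orderOf_pos_iff.mpr (isOfFinOrder_iff_pow_eq_one.mpr ⟨q ^ d + 1, by omega, hqd⟩)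
  have hmpos : 0 < m := by
    rcases Nat.eq_zero_or_pos m with hm0 | hm0
    · rw [hm0, mul_zero] at hom; omega
    · exact hm0
  have hmlt : m < o := by
    rw [hom]
    exact lt_mul_of_one_lt_left hmpos hℓ.one_lt
  have hnot : ¬ P ∣ X ^ m - 1 := fun hdvd => by
    have e := (hy _).mpr hdvd
    rw [map_sub, map_pow, aeval_X, map_one, sub_eq_zero] at e
    exact pow_ne_one_of_lt_orderOf hmpos.ne' hmlt e
  have hdvd : P ∣ X ^ (m * ℓ) - 1 := (hy _).mp (by
    rw [map_sub, map_pow, aeval_X, map_one, mul_comm, ← hom, pow_orderOf_eq_one, sub_self])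
  -- the power of prime order has no fixed points
  have hTℓ : (T ^ m) ^ ℓ = 1 := by
    obtain ⟨c, hc⟩ := hdvd
    have e := congrArg (aeval T) hc
    rw [map_mul, hPT, zero_mul, map_sub, map_pow, aeval_X, map_one, sub_eq_zero] at e
    rw [← pow_mul]; exact e
  have hfix : ∀ x, (T ^ m) x = x → x = 0 := by
    obtain ⟨u, v, huv⟩ := hPi.coprime_iff_not_dvd.mpr hnot
    intro x hx
    have e := LinearMap.congr_fun (congrArg (aeval T) huv) x
    rw [map_add, map_mul, map_mul, hPT, mul_zero, zero_add, map_one, Module.End.mul_apply, map_sub, map_pow, aeval_X,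
      map_one, LinearMap.sub_apply, Module.End.one_apply, hx, sub_self, map_zero] at e
    exact e.symm
  have hTm : ∀ x, Cfsg.quadFormPlus d F ((T ^ m) x) = Cfsg.quadFormPlus d F x := by
    intro x
    clear hTℓ hfix hdvd hnot hom hmlt hmpos
    induction m generalizing x with
    | zero => rfl
    | succ m ih => rw [pow_succ, Module.End.mul_apply, ih, hT]
  have h1 : (T ^ m).charpoly.eval 1 ≠ 0 := fun e => by
    obtain ⟨x, hx⟩ := ((Module.End.hasEigenvalue_iff_isRoot_charpoly (T ^ m) 1).mpr e).exists_hasEigenvector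
    exact hx.2 (hfix x (by simpa using hx.apply_eq_smul))
  have hpar := plus_parity hℓ (⟨T ^ m, hTm, hTℓ, rfl⟩ : Real ℓ (Cfsg.quadFormPlus d F) (T ^ m).charpoly) h1
  -- but `q ^ d = -1` modulo the prime
  have hℓq : ℓ ∣ q ^ d + 1 := (Nat.minFac_dvd o).trans (orderOf_dvd_of_pow_eq_one hqd)
  have hneg : (q : ZMod ℓ) ^ d = -1 := by
    have := (ZMod.natCast_eq_zero_iff (q ^ d + 1) ℓ).mpr hℓq
    push_cast at this
    linear_combination this
  have hℓ2 : (2 : ZMod ℓ) ≠ 0 := by
    intro e
    have h2 : ℓ ∣ 2 := (ZMod.natCast_eq_zero_iff 2 ℓ).mp (by exact_mod_cast e)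
    rw [(Nat.prime_dvd_prime_iff_eq hℓ Nat.prime_two).mp h2] at hℓq
    have hev : Even (q ^ d) := (Nat.even_pow.mpr ⟨(even_iff_two_dvd.mpr (by
      rw [hq]
      exact (FiniteField.even_card_iff_char_two.mp (CharP.ringChar_of_prime_eq_zero Nat.prime_two CharTwo.two_eq_zero)
        |> Nat.dvd_of_mod_eq_zero))), by omega⟩)
    have := even_iff_two_dvd.mp hev
    omega
  rw [hneg] at hpar
  rcases mul_eq_zero.mp hpar with e | e
  · exact hℓ2 (by linear_combination -e)
  · have h1' : (q : ZMod ℓ) = 1 := by linear_combination e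
    rw [h1', one_pow] at hneg
    exact hℓ2 (by linear_combination hneg)

variable {R n : ℕ} (hR0 : 0 < R) (hRodd : Odd R)
  (hR : ∀ P : F[X], Irreducible P → P.coeff 0 ≠ 0 → P.natDegree ≤ 2 * n → P ∣ X ^ R - 1)
  {a b : F} (hab : ∀ z₁ z₂ : F, z₁ ^ 2 + a * z₁ * z₂ + b * z₂ ^ 2 = 0 → z₁ = 0 ∧ z₂ = 0)
include hR0 hRodd hR hab

omit [CharP F 2] in
theorem factor_dvd {g P : F[X]} (hg : g.coeff 0 ≠ 0) (hd : g.natDegree ≤ 2 * n) (hP : Irreducible P) (hPg : P ∣ g) :
    P ∣ X ^ R - 1 := by
  have hg0 : g ≠ 0 := fun e => hg (by rw [e, coeff_zero])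
  refine hR P hP ?_ ((natDegree_le_of_dvd hPg hg0).trans hd)
  obtain ⟨c, rfl⟩ := hPg
  rw [mul_coeff_zero] at hg
  exact left_ne_zero_of_mul hg

/-- The type of the lift of an irreducible polynomial. -/
theorem real_irreducible {d : ℕ} {r : F[X]} (hm : r.Monic) (hi : Irreducible r) (hd : r.natDegree = d) (hdn : d ≤ n)
    (h0 : r.coeff 0 ≠ 0) :
    (asClass (r.coeff 1 / r.coeff 0) → Real R (Cfsg.quadFormPlus d F) (palLift d r)) ∧
    (¬ asClass (r.coeff 1 / r.coeff 0) →
      ∃ j, d = j + 1 ∧ Real R (Cfsg.quadFormMinus j F a b) (palLift d r)) := by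
  haveI := fact_two
  refine ⟨fun h => ?_, fun h => ?_⟩
  · obtain ⟨g, hgm, hgd, hg0, e⟩ := exists_split_of_asClass hm hi hd h0 h
    rw [e]
    exact real_pair (p := 2) hR0 g hgm hgd hg0 fun P hP hPg =>
      factor_dvd hR0 hRodd hR hab hg0 (by omega) hP hPg
  · obtain ⟨hPm, hPd, hP0, hPr⟩ := isPal_palLift hm hd
    obtain ⟨Q, hQ, hreal⟩ := real_self (p := 2) (r := R) hR0 hRodd (palLift d r) hPm hPd hP0 hPr
      (by rwa [eval_palLift_one]) fun P hP hPg =>
        factor_dvd hR0 hRodd hR hab (by rw [hP0]; exact one_ne_zero) (by omega) hP hPg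
    rcases classify_even Q hQ (k := d) (by simp [two_mul]) a b hab with hp | ⟨j, hj, hm'⟩
    · exact absurd (hreal.of_iso hp) (not_real_plus_palLift hm hi hd h0 h)
    · exact ⟨j, hj, hreal.of_iso hm'⟩

/-- The type of the lift of a polynomial with non-zero constant term. -/
theorem real_of_class : ∀ {d : ℕ} {h : F[X]}, h.Monic → h.natDegree = d → d ≤ n → h.coeff 0 ≠ 0 →
    (asClass (h.coeff 1 / h.coeff 0) → Real R (Cfsg.quadFormPlus d F) (palLift d h)) ∧
    (¬ asClass (h.coeff 1 / h.coeff 0) →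
      ∃ j, d = j + 1 ∧ Real R (Cfsg.quadFormMinus j F a b) (palLift d h)) := by
  intro d
  induction d using Nat.strong_induction_on with
  | _ d ih =>
    intro h hm hd hdn h0
    rcases Nat.eq_zero_or_pos d with rfl | hd1
    · obtain rfl := eq_one_of_monic_natDegree_zero hm hd
      refine ⟨fun _ => ?_, fun hc => absurd (by simpa [coeff_one] using asClass_zero (K := F)) hc⟩
      rw [palLift_zero_one]
      simpa using real_one (r := R) (Cfsg.quadFormPlus 0 F)
    · obtain ⟨r, hrm, hri, k, rfl⟩ := Polynomial.exists_monic_irreducible_factor h (fun hu => by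
        have := natDegree_eq_zero_of_isUnit hu
        omega)
      have hkm : k.Monic := hrm.of_mul_monic_left hm
      rw [hrm.natDegree_mul hkm] at hd
      rw [mul_coeff_zero] at h0
      have hr0 := left_ne_zero_of_mul h0
      have hk0 := right_ne_zero_of_mul h0
      have hrpos := hri.natDegree_pos
      obtain ⟨rp, rn⟩ := real_irreducible hR0 hRodd hR hab hrm hri rfl (by omega) hr0
      obtain ⟨kp, kn⟩ := ih k.natDegree (by omega) hkm rfl (by omega) hk0
      rw [asClass_ratio_mul hr0 hk0, show palLift d (r * k) = palLift r.natDegree r * palLift k.natDegree k by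
        rw [← hd]; exact palLift_mul le_rfl le_rfl]
      by_cases hr : asClass (r.coeff 1 / r.coeff 0) <;> by_cases hk : asClass (k.coeff 1 / k.coeff 0)
      · refine ⟨fun _ => hd ▸ real_pp (rp hr) (kp hk), fun hc => absurd (iff_of_true hr hk) hc⟩
      · refine ⟨fun hc => absurd (hc.mp hr) hk, fun _ => ?_⟩
        obtain ⟨j, hj, hreal⟩ := kn hk
        exact ⟨r.natDegree + j, by omega, real_pm (rp hr) hreal⟩
      · refine ⟨fun hc => absurd (hc.mpr hk) hr, fun _ => ?_⟩
        obtain ⟨j, hj, hreal⟩ := rn hr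
        rw [mul_comm]
        exact ⟨k.natDegree + j, by omega, real_pm (kp hk) hreal⟩
      · refine ⟨fun _ => ?_, fun hc => absurd (iff_of_false hr hk) hc⟩
        obtain ⟨i, hi, hreal⟩ := rn hr
        obtain ⟨j, hj, hreal'⟩ := kn hk
        rw [show d = i + j + 2 by omega]
        exact real_mm hab hreal hreal'

/-- A lift with the root `1` occurs on both spaces. -/
theorem real_both : ∀ {d : ℕ} {h : F[X]}, h.Monic → h.natDegree = d → d + 1 ≤ n →
    Real R (Cfsg.quadFormPlus (d + 1) F) (palLift (d + 1) (X * h)) ∧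
      Real R (Cfsg.quadFormMinus d F a b) (palLift (d + 1) (X * h)) := by
  intro d
  induction d using Nat.strong_induction_on with
  | _ d ih =>
    intro h hm hd hdn
    have hp : Real R (Cfsg.quadFormPlus 1 F) (palLift 1 (X : F[X])) := by
      rw [palLift_one_X]
      simpa using real_one (r := R) (Cfsg.quadFormPlus 1 F)
    have hn' : Real R (Cfsg.quadFormMinus 0 F a b) (palLift 1 (X : F[X])) := by
      rw [palLift_one_X]
      simpa using real_one (r := R) (Cfsg.quadFormMinus 0 F a b)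
    have hmul : palLift (d + 1) (X * h) = palLift d h * palLift 1 X := by
      rw [mul_comm X h, palLift_mul hd.le natDegree_X_le]
    have hsome : Real R (Cfsg.quadFormPlus d F) (palLift d h) ∨
        ∃ j, d = j + 1 ∧ Real R (Cfsg.quadFormMinus j F a b) (palLift d h) := by
      by_cases h0 : h.coeff 0 = 0
      · obtain ⟨k, rfl⟩ := X_dvd_iff.mpr h0
        have hkm : k.Monic := monic_X.of_mul_monic_left hm
        rw [monic_X.natDegree_mul hkm, natDegree_X] at hd
        obtain ⟨e, -⟩ := ih k.natDegree (by omega) hkm rfl (by omega)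
        rw [show k.natDegree + 1 = d by omega] at e
        exact Or.inl e
      · obtain ⟨hp', hn''⟩ := real_of_class hR0 hRodd hR hab hm hd (by omega) h0
        by_cases hc : asClass (h.coeff 1 / h.coeff 0)
        · exact Or.inl (hp' hc)
        · exact Or.inr (hn'' hc)
    rw [hmul]
    rcases hsome with hr | ⟨j, rfl, hr⟩
    · exact ⟨real_pp hr hp, real_pm hr hn'⟩
    · refine ⟨real_mm hab hr hn', ?_⟩
      have e := real_pm hp hr
      rw [mul_comm, add_comm 1 j] at e
      exact e

end CfsgLib.Classical.OrthEvenClass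

namespace CfsgLib.Classical.OrthEvenClass

open Polynomial Module CfsgLib.Classical.OrthPrimeReal

universe v

variable {F : Type v} [Field F] [Fintype F]

theorem exists_exponent (hF : Even (Fintype.card F)) (n : ℕ) : ∃ R : ℕ, 0 < R ∧ Odd R ∧
    ∀ P : F[X], Irreducible P → P.coeff 0 ≠ 0 → P.natDegree ≤ 2 * n → P ∣ X ^ R - 1 := by
  have hq := Fintype.one_lt_card (α := F)
  set N := (2 * n).factorial
  have hN : 0 < N := Nat.factorial_pos _
  have hbig : 1 < Fintype.card F ^ N := Nat.one_lt_pow hN.ne' hq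
  refine ⟨Fintype.card F ^ N - 1, by omega, ?_, fun P hP h0 hd => ?_⟩
  · exact Nat.Even.sub_odd hbig.le (hF.pow_of_ne_zero hN.ne') odd_one
  · have hdvd := (hP.natDegree_dvd_iff_dvd_X_pow_card_pow_sub_X (n := N)).mp
      (Nat.dvd_factorial hP.natDegree_pos hd)
    rw [Nat.card_eq_fintype_card, show (X ^ Fintype.card F ^ N - X : F[X]) = X * (X ^ (Fintype.card F ^ N - 1) - 1) by
      rw [mul_sub, mul_one, ← pow_succ', Nat.sub_add_cancel hbig.le]] at hdvd
    refine (hP.prime.dvd_or_dvd hdvd).resolve_left fun hX => h0 ?_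
    exact X_dvd_iff.mp ((hP.associated_of_dvd irreducible_X hX).symm.dvd)

/-- Realised characteristic polynomials give classes. -/
theorem card_le_card_conjClasses {ι : Type} [Fintype ι] [DecidableEq ι] {R : ℕ} (hR : 0 < R) (Q : (ι → F) → F)
    {S : Type*} (φ : S → F[X]) (hφ : Function.Injective φ) (h : ∀ s, Real R Q (φ s)) :
    Nat.card S ≤ Nat.card (ConjClasses (Cfsg.isometryGroup F Q)) := by
  classical
  have hex : ∀ s, ∃ A : Cfsg.isometryGroup F Q,
      ((A : GL ι F) : Matrix ι ι F).charpoly = φ s := fun s => by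
    obtain ⟨T, hT, hTR, hTc⟩ := h s
    set M := LinearMap.toMatrix' T
    have hTM : Matrix.toLin' M = T := Matrix.toLin'_toMatrix' T
    have hMR : M ^ R = 1 := Matrix.toLin'.injective (by
      rw [Matrix.toLin'_pow, hTM, hTR, Matrix.toLin'_one]; rfl)
    obtain ⟨c, hc⟩ := IsUnit.of_pow_eq_one hMR hR.ne'
    refine ⟨⟨c, CfsgLib.Classical.RestrictScalars.isometry_mem.2 fun x => ?_⟩, ?_⟩
    · rw [hc, ← Matrix.toLin'_apply, hTM, hT]
    · show (c : Matrix ι ι F).charpoly = φ s
      rw [hc, ← hTc, ← hTM, Matrix.charpoly_toLin']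
  choose A hA using hex
  refine Nat.card_le_card_of_injective (fun s => ConjClasses.mk (A s)) fun s t e => hφ ?_
  obtain ⟨c, hc⟩ := isConj_iff.mp (ConjClasses.mk_eq_mk_iff_isConj.mp e)
  rw [← hA s, ← hA t, ← hc]
  simp only [Subgroup.coe_mul, Units.val_mul, Subgroup.coe_inv]
  rw [Matrix.coe_units_inv]
  exact (Matrix.charpoly_units_conj (c : GL ι F) ((A s : GL ι F) : Matrix ι ι F)).symm

theorem card_monic_natDegree (m : ℕ) :
    Nat.card {h : F[X] // h.Monic ∧ h.natDegree = m} = Nat.card F ^ m := by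
  rw [Nat.card_congr ((monicEquivDegreeLT (R := F) m).trans (degreeLTEquiv F m).toEquiv), Nat.card_fun, Nat.card_fin]

theorem finite_monic_natDegree (m : ℕ) : Finite {h : F[X] // h.Monic ∧ h.natDegree = m} :=
  Finite.of_equiv _ ((monicEquivDegreeLT (R := F) m).trans (degreeLTEquiv F m).toEquiv).symm

/-- Both types of a space of dimension `2 n` have at least `q ^ n / 2` classes. -/
theorem le_card_conjClasses (heven : Even (Fintype.card F)) (n : ℕ) (hn : 2 ≤ n) (a b : F)
    (hab : ∀ z₁ z₂ : F, z₁ ^ 2 + a * z₁ * z₂ + b * z₂ ^ 2 = 0 → z₁ = 0 ∧ z₂ = 0) :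
    Fintype.card F ^ n ≤ 2 * Nat.card (ConjClasses ↥(Cfsg.isometryGroup F (Cfsg.quadFormPlus n F))) ∧
      Fintype.card F ^ n ≤
        2 * Nat.card (ConjClasses ↥(Cfsg.isometryGroup F (Cfsg.quadFormMinus (n - 1) F a b))) := by
  haveI : CharP F 2 := ringChar.of_eq (by
    by_contra hne
    exact (Nat.not_odd_iff_even.mpr heven) (Nat.odd_iff.mpr (FiniteField.odd_card_of_char_ne_two hne)))
  obtain ⟨R, hR0, hRodd, hR⟩ := exists_exponent heven n
  obtain ⟨m, rfl⟩ : ∃ m, n = m + 1 := ⟨n - 1, by omega⟩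
  haveI := finite_monic_natDegree (F := F) m
  haveI hfinA : ∀ s : Bool, Finite {h : F[X] // h.Monic ∧ h.natDegree = m + 1 ∧ h.coeff 0 ≠ 0 ∧
      (asClass (h.coeff 1 / h.coeff 0) ↔ s = true)} := fun s =>
    haveI := finite_monic_natDegree (F := F) (m + 1)
    Finite.of_injective (fun h => (⟨h.1, h.2.1, h.2.2.1⟩ : {h : F[X] // h.Monic ∧ h.natDegree = m + 1}))
      fun x y e => Subtype.ext (congrArg Subtype.val e :)
  -- the polynomials of one type
  have key : ∀ s : Bool, Fintype.card F ^ (m + 1) ≤ 2 * Nat.card ({h : F[X] // h.Monic ∧ h.natDegree = m} ⊕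
      {h : F[X] // h.Monic ∧ h.natDegree = m + 1 ∧ h.coeff 0 ≠ 0 ∧
        (asClass (h.coeff 1 / h.coeff 0) ↔ s = true)}) := fun s => by
    rw [Nat.card_sum, card_monic_natDegree, mul_add, two_mul_card_ratio_class hn s, Nat.card_eq_fintype_card,
      Nat.add_sub_cancel, pow_succ']
    have : 1 < Fintype.card F := Fintype.one_lt_card
    calc Fintype.card F * Fintype.card F ^ m = (1 + (Fintype.card F - 1)) * Fintype.card F ^ m := by
          rw [Nat.add_sub_cancel' this.le]
      _ ≤ (2 + (Fintype.card F - 1)) * Fintype.card F ^ m := by gcongr; omega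
      _ = 2 * Fintype.card F ^ m + (Fintype.card F - 1) * Fintype.card F ^ m := add_mul _ _ _
  have hinj : ∀ s : Bool, Function.Injective
      (Sum.elim (fun h : {h : F[X] // h.Monic ∧ h.natDegree = m} => palLift (m + 1) (X * h.1))
        (fun h : {h : F[X] // h.Monic ∧ h.natDegree = m + 1 ∧ h.coeff 0 ≠ 0 ∧
          (asClass (h.coeff 1 / h.coeff 0) ↔ s = true)} => palLift (m + 1) h.1)) := fun s => by
    have hdX : ∀ h : {h : F[X] // h.Monic ∧ h.natDegree = m}, (X * h.1).natDegree ≤ m + 1 := fun h => by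
      rw [monic_X.natDegree_mul h.2.1, natDegree_X, h.2.2]; omega
    refine Function.Injective.sumElim (fun x y e => Subtype.ext (mul_left_cancel₀ X_ne_zero
      (palLift_injective (hdX x) (hdX y) e))) (fun x y e => Subtype.ext
      (palLift_injective x.2.2.1.le y.2.2.1.le e)) fun x y e => y.2.2.2.1 ?_
    rw [← palLift_injective (hdX x) y.2.2.1.le e, coeff_X_mul_zero]
  constructor
  · refine (key true).trans (Nat.mul_le_mul_left 2 (card_le_card_conjClasses hR0 _ _ (hinj true) ?_))
    rintro (h | h)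
    · exact (real_both hR0 hRodd hR hab h.2.1 h.2.2 le_rfl).1
    · exact (real_of_class hR0 hRodd hR hab h.2.1 h.2.2.1 le_rfl h.2.2.2.1).1 (h.2.2.2.2.mpr rfl)
  · refine (key false).trans (Nat.mul_le_mul_left 2 (card_le_card_conjClasses hR0 _ _ (hinj false) ?_))
    rw [Nat.add_sub_cancel]
    rintro (h | h)
    · exact (real_both hR0 hRodd hR hab h.2.1 h.2.2 le_rfl).2
    · obtain ⟨j, hj, hreal⟩ := (real_of_class hR0 hRodd hR hab h.2.1 h.2.2.1 le_rfl h.2.2.2.1).2
        fun hc => Bool.false_ne_true (h.2.2.2.2.mp hc)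
      obtain rfl : j = m := by omega
      exact hreal

end CfsgLib.Classical.OrthEvenClass
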