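import Cfsg.Agent.Lib.Classical.OrthEvenClass.Fibre
import Cfsg.Agent.Lib.Classical.SpEven.Main
import Cfsg.Agent.Lib.Classical.SpEven.Exists
import Cfsg.Agent.Lib.Classical.SpEven.UCount

/-!
At most `15 q ^ n` classes in an orthogonal group of dimension `2 n`, `q` even.

The classes inject into pairs of a unipotent type and a tuple of the part without fixed vectors,
and for each tuple of weight `n - 2` one of the two types `V 4` is missing.
-/

set_option autoImplicit false
set_option linter.style.haveILetI false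
set_option linter.unusedSectionVars false

namespace CfsgLib.Classical.OrthEvenClass

open Polynomial Module Matrix QuadraticMap CfsgLib.Classical.SpClassBound CfsgLib.Classical.SpEven
  CfsgLib.Classical.OrthClassBound

open scoped _root_.Classical

theorem valid_v4 (neg : Bool) : (∀ k ∈ ({UKey.cyc 2 neg} : Multiset UKey), k.Valid) ∧
    UNorm {UKey.cyc 2 neg} ∧ (({UKey.cyc 2 neg} : Multiset UKey).map UKey.dim).sum = 2 * 2 := by
  refine ⟨fun k hk => ?_, ⟨fun k => ?_, fun d hd => ⟨?_, fun h => ?_, fun _ => ?_⟩⟩, rfl⟩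
  · obtain rfl := Multiset.mem_singleton.mp hk
    exact ⟨by omega, fun _ => le_rfl⟩
  · simp only [cycCount, Multiset.count_singleton]
    split_ifs <;> omega
  · simp only [Multiset.count_singleton, reduceCtorEq, if_false, add_zero]
    split_ifs <;> omega
  · simp only [Multiset.count_singleton, reduceCtorEq, if_false, add_zero] at h
    split_ifs at h with h'
    · simp only [UKey.cyc.injEq] at h'
      simp [cycCount, show d = 1 by omega]
    · omega
  · simp [pairCount]

variable {K : Type*} [Field K] [CharP K 2] [Fintype K] {ι : Type} [Fintype ι] [DecidableEq ι]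
  {Q : QuadraticForm K (ι → K)} (hnd : ∀ v, (∀ w, polarBilin Q v w = 0) → v = 0)
include hnd

/-- The classes of an orthogonal group in dimension `2 n`, `q` even, number at most `15 q ^ n`. -/
theorem card_conjClasses_le {n : ℕ} (hn : 2 ≤ n) (hι : Fintype.card ι = 2 * n) :
    Nat.card (ConjClasses (Cfsg.isometryGroup K ⇑Q)) ≤ 15 * Fintype.card K ^ n := by
  set q := Fintype.card K with hq
  have hq2 : 2 ≤ q := Fintype.one_lt_card
  obtain ⟨c, hc⟩ := exists_not_artinSchreier (K := K)
  have hI : ∀ A : Cfsg.isometryGroup K ⇑Q, Isom (polarBilin Q) (equiv A) (1 : K) := isom_equiv hnd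
  have halt : ∀ u, polarBilin Q u u = 0 := polar_alt
  have hex : ∀ A : Cfsg.isometryGroup K ⇑Q, ∃ m : Multiset UKey, (∀ k ∈ m, k.Valid) ∧ UNorm m ∧
      (m.map UKey.dim).sum = finrank K (uPart (equiv A)) ∧
      UHas (equiv A) (polarBilin Q) c (uPart (equiv A)) m := fun A =>
    exists_uHas (hI A) halt hc _ (uPart_stable _) (nd_uPart (hI A)) fun x hx => ⟨_, by
      rw [← act_nilX]; exact act_zero_of_mem_uPart hx⟩
  have hgen : ∀ A : Cfsg.isometryGroup K ⇑Q, ∃ l, (∀ k ∈ l, IsGenKey k) ∧
      Decomp (equiv A) (polarBilin Q) 1 (gPart (equiv A)) l := fun A =>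
    exists_gen_decomp (hI A) neg_one_eq _ _ le_rfl (gPart_stable _) (nd_gPart (hI A))
      fun x hx h => gPart_fixed hx h
  choose m hmv hmn hmd hmh using fun C : ConjClasses (Cfsg.isometryGroup K ⇑Q) => hex C.out
  choose l hlg hld using fun C : ConjClasses (Cfsg.isometryGroup K ⇑Q) => hgen C.out
  choose j hj using fun C => dim_uType_even (m C)
  have hvalid : ∀ C, ∀ k ∈ l C, k.Valid (1 : K) := fun C => ((hld C).facts (hI C.out)).1
  have hdim : ∀ C, j C ≤ n ∧ ((l C).map Key.dim).sum = 2 * (n - j C) := fun C => by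
    have h1 := Submodule.finrank_add_eq_of_isCompl (isCompl_parts (equiv C.out))
    rw [Module.finrank_fintype_fun_eq_card, hι, ← hmd C, hj C, ((hld C).facts (hI C.out)).2] at h1
    omega
  have htup : ∀ C, GLClassBound.IsTuple n (n - j C) (genTuple n (l C)) ∧
      ∀ k ∈ l C, ∀ p e, k = Key.gen p e → e ≤ n := fun C =>
    isTuple_genTuple (hvalid C) (hlg C) (hdim C).2 (Nat.sub_le _ _)
  let T : ℕ → Type _ := fun s => {h : Fin n → K[X] // GLClassBound.IsTuple n s h}
  have hTfin : ∀ s, Finite (T s) := fun s => (GLClassBound.tuple_finite_and_bound rfl n s).1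
  have hTcard : ∀ s, Nat.card (T s) ≤ q ^ s := fun s => by
    obtain ⟨-, h0, h1⟩ := GLClassBound.tuple_finite_and_bound (F := K) rfl n s
    rcases Nat.eq_zero_or_pos s with rfl | hs
    · simpa using h0
    · have h2 := h1 hs
      rw [← hq, pow_add] at h2
      exact Nat.le_of_mul_le_mul_left (le_of_add_le_left h2) (pow_pos (by omega) n)
  let S := Σ i : Fin (n + 1), UType i.1 × T (n - i.1)
  let f : ConjClasses (Cfsg.isometryGroup K ⇑Q) → S := fun C =>
    ⟨⟨j C, Nat.lt_succ_of_le (hdim C).1⟩, ⟨m C, hmv C, hmn C, hj C⟩, ⟨genTuple n (l C), (htup C).1⟩⟩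
  have hgiso : ∀ C C', genTuple n (l C) = genTuple n (l C') →
      GIso (equiv C.out) (equiv C'.out) (polarBilin Q) (gPart (equiv C.out)) (gPart (equiv C'.out)) :=
    fun C C' hl => genDecomp_iso (hI C.out) (hI C'.out) (hlg C')
      ((hld C).perm (hI C.out) (genTuple_inj (hvalid C) (hvalid C') (hlg C) (hlg C') (htup C).2 (htup C').2 hl))
      (hld C')
  have hf : Function.Injective f := fun C C' h => by
    have hm : m C = m C' := congrArg (fun z : S => z.2.1.1) h
    have h1 := UHas.giso (hI C.out) halt (hI C'.out) (hm ▸ hmh C) (hmh C')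
    have h2 := hgiso C C' (congrArg (fun z : S => z.2.2.1) h)
    have h3 := GIso.glue (hI C.out) h1 h2 (parts_orth (hI C.out)) (parts_orth (hI C'.out))
    rw [(isCompl_parts (equiv C.out)).sup_eq_top, (isCompl_parts (equiv C'.out)).sup_eq_top] at h3
    obtain ⟨φ, hφg, hφB⟩ := h3.exists_equiv (hI C.out)
    have := ConjClasses.mk_eq_mk_iff_isConj.mpr (isConj_of_polar_conj hnd φ hφB hφg)
    rwa [show ConjClasses.mk C.out = C from Quotient.out_eq C,
      show ConjClasses.mk C'.out = C' from Quotient.out_eq C'] at this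
  -- for each tuple one of the two types `V 4` is missing
  let pt : Bool → T (n - 2) → S := fun neg t =>
    ⟨⟨2, by omega⟩, ⟨{UKey.cyc 2 neg}, valid_v4 neg⟩, t⟩
  have hmiss : ∀ t, ∃ neg, pt neg t ∉ Set.range f := by
    intro t
    by_contra hall
    push Not at hall
    obtain ⟨C, hC⟩ := hall false
    obtain ⟨C', hC'⟩ := hall true
    have hm : m C = {UKey.cyc 2 false} := congrArg (fun z : S => z.2.1.1) hC
    have hm' : m C' = {UKey.cyc 2 true} := congrArg (fun z : S => z.2.1.1) hC'
    exact v4_exclusive hnd hc C.out C'.out (hm ▸ hmh C) (hm' ▸ hmh C')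
      (hgiso C C' ((congrArg (fun z : S => z.2.2.1) hC).trans (congrArg (fun z : S => z.2.2.1) hC').symm))
  choose miss hmiss using hmiss
  have hF : Function.Injective (Sum.elim f fun t => pt (miss t) t) := by
    refine hf.sumElim (fun t t' h => Subtype.ext (congrArg (fun z : S => z.2.2.1) h)) fun C t h => hmiss t ⟨C, h⟩
  have hcard := Nat.card_le_card_of_injective _ hF
  rw [Nat.card_sum, Nat.card_sigma] at hcard
  simp only [Nat.card_prod] at hcard
  rw [Fin.sum_univ_eq_sum_range (fun i => Nat.card (UType i) * Nat.card (T (n - i)))] at hcard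
  have hpow : ∀ i, i ≤ n → ((q ^ (n - i) : ℕ) : ℚ) ≤ (q : ℚ) ^ n * (1 / 2) ^ i := fun i hi => by
    have h2 : (1 : ℚ) ≤ (q : ℚ) ^ i * (1 / 2) ^ i := by
      rw [← mul_pow]
      refine one_le_pow₀ ?_
      have : (2 : ℚ) ≤ q := by exact_mod_cast hq2
      linarith
    conv_rhs => rw [← Nat.sub_add_cancel hi, pow_add, mul_assoc]
    rw [Nat.cast_pow]
    exact le_mul_of_one_le_right (by positivity) h2
  set U : ℕ → ℚ := fun i => (Nat.card (UType i) : ℚ)
  set w : ℕ → ℚ := fun i => if i = 2 then 1 else 0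
  have hU2 : (1 : ℚ) ≤ U 2 := by
    haveI : Nonempty (UType 2) := ⟨⟨_, valid_v4 false⟩⟩
    exact Nat.one_le_cast.mpr Nat.card_pos
  have hmain : (Nat.card (ConjClasses (Cfsg.isometryGroup K ⇑Q)) : ℚ) + (Nat.card (T (n - 2)) : ℚ) ≤
      ∑ i ∈ Finset.range (n + 1), U i * (Nat.card (T (n - i)) : ℚ) := by
    simp only [U]
    exact_mod_cast hcard
  have hterm : ∀ i ∈ Finset.range (n + 1), (U i - w i) * (Nat.card (T (n - i)) : ℚ) ≤
      (q : ℚ) ^ n * (U i * (1 / 2) ^ i - w i / 4) := fun i hi => by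
    have hi' : i ≤ n := Nat.le_of_lt_succ (Finset.mem_range.mp hi)
    have hw : 0 ≤ U i - w i := by
      simp only [w]
      split_ifs with h
      · subst h; linarith
      · simp [U]
    refine (mul_le_mul_of_nonneg_left ((Nat.cast_le.mpr (hTcard _)).trans (hpow i hi')) hw).trans (le_of_eq ?_)
    simp only [w]
    split_ifs with h
    · subst h; ring
    · ring
  have hw2 : ∀ F : ℕ → ℚ, ∑ i ∈ Finset.range (n + 1), w i * F i = F 2 := fun F => by
    simp only [w]
    rw [Finset.sum_eq_single 2 (fun i _ hi => by simp [hi]) (fun h => absurd (Finset.mem_range.mpr (by omega)) h)]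
    simp
  have h1 := Finset.sum_le_sum hterm
  simp only [sub_mul, Finset.sum_sub_distrib, ← Finset.mul_sum] at h1
  rw [hw2 fun i => (Nat.card (T (n - i)) : ℚ)] at h1
  have h4 : ∑ i ∈ Finset.range (n + 1), w i / 4 = 1 / 4 := by
    rw [← hw2 fun _ => (1 / 4 : ℚ)]
    exact Finset.sum_congr rfl fun i _ => by ring
  rw [h4] at h1
  have hsum : ∑ i ∈ Finset.range (n + 1), U i * (1 / 2) ^ i ≤ 76 / 5 := sum_utype_le n
  have hqn : (0 : ℚ) ≤ (q : ℚ) ^ n := by positivity
  rw [← Nat.cast_le (α := ℚ)]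
  push_cast
  nlinarith

end CfsgLib.Classical.OrthEvenClass
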